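import Groth.Agent.L27.EtGlue.Stage
import Groth.Agent.L05.NbhdLimit.Basic

/-!
# Etale effectivity at a point of the base
-/

set_option autoImplicit false
set_option linter.style.haveILetI false
set_option backward.isDefEq.respectTransparency.types false

universe u

open CategoryTheory Limits AlgebraicGeometry Groth.L20.SchDesc

namespace Groth.L27.EtGlue

variable {S' S : Scheme.{u}} {g : S' ⟶ S} {D : Desc.SchDDFam (fun _ : PUnit.{1} => g)}

theorem surjective_of_univSubmersive (hg : SGA1.UnivSubmersive g) : Surjective g := by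
  have h : Topology.IsQuotientMap g.base := MorphismProperty.universally_le _ _ hg
  exact ⟨h.surjective⟩

theorem Good.of_nhd {W : S.Opens} {a : S} (ha : a ∈ W) (h : Good D W.ι) : Good D (S.fromSpecStalk a) :=
  h.baseChange (W.fromSpecStalkOfMem a ha) (Scheme.Opens.fromSpecStalkOfMem_ι W a ha)

/-- Effectivity at a point spreads to a neighbourhood. -/
theorem exists_nhd [LocallyOfFinitePresentation g] [QuasiCompact g]
    [QuasiSeparated g] [Surjective g] [Etale (prj D)] [QuasiCompact (prj D)] [QuasiSeparated (prj D)]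
    (a : S) (h : Good D (S.fromSpecStalk a)) : ∃ W : S.Opens, a ∈ W ∧ Good D W.ι := by
  obtain ⟨_, ⟨W₀, hW₀, rfl⟩, ha, -⟩ :=
    S.isBasis_affineOpens.exists_subset_of_mem_open (Set.mem_univ a) isOpen_univ
  let L := S.presheaf.stalk a
  letI : Algebra Γ(S, W₀) L := (S.presheaf.germ W₀ a ha).hom.toAlgebra
  let p := (hW₀.primeIdealOf ⟨a, ha⟩).asIdeal
  haveI : IsLocalization.AtPrime L p := hW₀.isLocalization_stalk ⟨a, ha⟩
  let i₀ : Groth.L05.NbhdLimit.Idx p := Nonempty.some inferInstance
  let t := (Groth.L05.NbhdLimit.toBase p).app i₀ ≫ hW₀.fromSpec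
  have et : (Groth.L05.NbhdLimit.cone p L).π.app i₀ ≫ t = S.fromSpecStalk a := by
    refine (Category.assoc _ _ _).symm.trans
      ((congrArg (· ≫ hW₀.fromSpec) (Groth.L05.NbhdLimit.cone_π_toBase p L i₀)).trans ?_)
    exact (hW₀.fromSpecStalk_eq_fromSpecStalk ha)
  rw [← et] at h
  obtain ⟨i, φ, hi⟩ := h.exists_stage (Groth.L05.NbhdLimit.isLimitCone p L) t
  let m : (Groth.L05.NbhdLimit.D p).obj i ⟶ S := (Groth.L05.NbhdLimit.toBase p).app i ≫ hW₀.fromSpec
  have em : (Groth.L05.NbhdLimit.D p).map φ ≫ t = m := by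
    have := (Groth.L05.NbhdLimit.toBase p).naturality φ
    exact (Category.assoc _ _ _).symm.trans (congrArg (· ≫ hW₀.fromSpec) (this.trans (Category.comp_id _)))
  rw [em] at hi
  haveI : IsOpenImmersion ((Groth.L05.NbhdLimit.toBase p).app i) :=
    Groth.L05.NbhdLimit.toBase_isOpenImmersion p i
  haveI : IsOpenImmersion m := IsOpenImmersion.comp _ _
  refine ⟨m.opensRange, ?_, hi.baseChange m.isoOpensRange.inv m.isoOpensRange_inv_comp⟩
  have e : (Groth.L05.NbhdLimit.cone p L).π.app i ≫ m = S.fromSpecStalk a := by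
    rw [← em, ← Category.assoc, (Groth.L05.NbhdLimit.cone p L).w]; exact et
  exact ⟨(Groth.L05.NbhdLimit.cone p L).π.app i (IsLocalRing.closedPoint L), by
    rw [← Scheme.Hom.comp_apply, e]; exact Scheme.fromSpecStalk_closedPoint⟩

theorem etEffective_of_forall_good (hg : SGA1.UnivSubmersive g)
    (h : ∀ a : S, ∃ W : S.Opens, a ∈ W ∧ Good D W.ι) : EtEffective (preOf D) := by
  refine etEffective_of_cover hg _ fun v => ?_
  obtain ⟨W, hW, hgood⟩ := h (g ((D.obj PUnit.unit).hom v))
  exact exists_piece W.ι D (good_iff.2 hgood) v (by rw [Scheme.Opens.range_ι]; exact hW)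

end Groth.L27.EtGlue
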