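import Groth.Agent.L27.EtGlue.Fpqc
import Groth.Agent.L27.EtGlue.Point

/-!
# Etale effectivity at a point tested after a faithfully flat extension of the local ring
-/

set_option autoImplicit false
set_option linter.style.haveILetI false
set_option backward.isDefEq.respectTransparency.types false

universe u

open CategoryTheory Limits AlgebraicGeometry Groth.L20.SchDesc

namespace Groth.L27.EtGlue

variable {S' S : Scheme.{u}} {g : S' ⟶ S} {D : Desc.SchDDFam (fun _ : PUnit.{1} => g)}

theorem isPullback_fW {W : Scheme.{u}} (m : W ⟶ S) :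
    IsPullback (pullback.fst (toS D) m) (fW D m) (prj D) (pullback.fst g m) := by
  refine IsPullback.of_bot ?_ (fW_fst D m).symm (IsPullback.of_hasPullback g m)
  rw [fW_snd]
  exact IsPullback.of_hasPullback _ _

/-- A tuple has quasi-compact separated structure map when the datum has. -/
theorem Tup.props {W : Scheme.{u}} {m : W ⟶ S} (t : Tup D m) [IsIso t.κ]
    (hg : SGA1.UnivSubmersive g) [QuasiCompact g] [QuasiCompact (prj D)] [IsSeparated (prj D)] :
    QuasiCompact t.a ∧ IsSeparated t.a := by
  have : SGA1.UnivSubmersive.{u}.IsStableUnderBaseChange :=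
    MorphismProperty.universally_isStableUnderBaseChange _
  haveI hqf : QuasiCompact (fW D m) :=
    MorphismProperty.of_isPullback (P := @QuasiCompact) (isPullback_fW m) inferInstance
  haveI hsf : IsSeparated (fW D m) :=
    MorphismProperty.of_isPullback (P := @IsSeparated) (isPullback_fW m) inferInstance
  haveI : QuasiCompact (pullback.snd g m) := MorphismProperty.pullback_snd _ _ inferInstance
  haveI : Surjective t.q := by
    have h : Topology.IsQuotientMap t.q.base :=
      MorphismProperty.universally_le _ _ (t.univSubmersive_q hg)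
    exact ⟨h.surjective⟩
  haveI : QuasiCompact (t.q ≫ t.a) := by rw [t.w, ← fW_snd]; infer_instance
  refine ⟨Groth.L08.NormalQuot.quasiCompact_of_surjective t.q t.a, ?_⟩
  have hs : IsSeparated (pullback.fst (pullback.snd g m) t.a) := by
    rw [← (IsIso.inv_comp_eq t.κ).2 t.κ_fst.symm]; infer_instance
  exact Groth.L27.SubDesc.isSeparated (IsPullback.of_hasPullback (pullback.snd g m) t.a)
    (MorphismProperty.pullback_snd (P := SGA1.UnivSubmersive.{u}) _ _ hg) hs

/-- A tuple over `m' ≫ j` is a tuple of the datum pulled back along `j`. -/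
theorem exists_tup_pull {W₀ W : Scheme.{u}} {j : W₀ ⟶ S} (m' : W ⟶ W₀) (t : Tup D (m' ≫ j))
    [IsIso t.κ] (hc : t.Comm) (R : MorphismProperty Scheme.{u}) (hR : R t.a) :
    ∃ t' : Tup (pull j D) m', R t'.a ∧ IsIso t'.κ ∧ t'.Comm := by
  let f := prj D
  let k := pullback.fst g j
  let g' := pullback.snd g j
  let T' : pullback f k ⟶ W₀ := pullback.snd f k ≫ g'
  let εh : pullback g' m' ⟶ pullback g (m' ≫ j) :=
    pullback.lift (pullback.fst g' m' ≫ k) (pullback.snd g' m') (by
      rw [Category.assoc, pullback.condition, pullback.condition_assoc])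
  let εx : pullback g (m' ≫ j) ⟶ pullback g j :=
    pullback.lift (pullback.fst g (m' ≫ j)) (pullback.snd g (m' ≫ j) ≫ m')
      (by rw [Category.assoc, pullback.condition])
  have hx1 : εx ≫ k = pullback.fst g (m' ≫ j) := pullback.lift_fst _ _ _
  have hx2 : εx ≫ g' = pullback.snd g (m' ≫ j) ≫ m' := pullback.lift_snd _ _ _
  let εi : pullback g (m' ≫ j) ⟶ pullback g' m' :=
    pullback.lift εx (pullback.snd g (m' ≫ j)) hx2
  have hh1 : εh ≫ pullback.fst g (m' ≫ j) = pullback.fst g' m' ≫ k := pullback.lift_fst _ _ _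
  have hh2 : εh ≫ pullback.snd g (m' ≫ j) = pullback.snd g' m' := pullback.lift_snd _ _ _
  have hi1 : εi ≫ pullback.fst g' m' = εx := pullback.lift_fst _ _ _
  have hi2 : εi ≫ pullback.snd g' m' = pullback.snd g (m' ≫ j) := pullback.lift_snd _ _ _
  let ε : pullback g' m' ≅ pullback g (m' ≫ j) :=
    { hom := εh
      inv := εi
      hom_inv_id := by
        apply pullback.hom_ext
        · rw [Category.assoc, hi1, Category.id_comp]
          apply pullback.hom_ext
          · exact (Category.assoc _ _ _).trans ((congrArg (εh ≫ ·) hx1).trans hh1)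
          · refine (Category.assoc _ _ _).trans ((congrArg (εh ≫ ·) hx2).trans ?_)
            rw [reassoc_of% hh2]
            exact pullback.condition.symm
        · rw [Category.assoc, hi2, hh2, Category.id_comp]
      inv_hom_id := by
        apply pullback.hom_ext
        · rw [Category.assoc, hh1, reassoc_of% hi1, hx1, Category.id_comp]
        · rw [Category.assoc, hh2, hi2, Category.id_comp] }
  let eh : pullback T' m' ⟶ pullback (toS D) (m' ≫ j) :=
    pullback.lift (pullback.fst T' m' ≫ pullback.fst f k) (pullback.snd T' m') (by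
      rw [Category.assoc, ← pullback.condition_assoc]
      show pullback.fst T' m' ≫ pullback.fst f k ≫ f ≫ g = _
      rw [pullback.condition_assoc, pullback.condition]
      exact congrArg (_ ≫ ·) (Category.assoc _ _ _).symm)
  let ey : pullback (toS D) (m' ≫ j) ⟶ pullback g j :=
    pullback.lift (pullback.fst (toS D) (m' ≫ j) ≫ f) (pullback.snd (toS D) (m' ≫ j) ≫ m')
      (by rw [Category.assoc, Category.assoc]; exact pullback.condition)
  have hy1 : ey ≫ k = pullback.fst (toS D) (m' ≫ j) ≫ f := pullback.lift_fst _ _ _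
  have hy2 : ey ≫ g' = pullback.snd (toS D) (m' ≫ j) ≫ m' := pullback.lift_snd _ _ _
  let ex : pullback (toS D) (m' ≫ j) ⟶ pullback f k :=
    pullback.lift (pullback.fst (toS D) (m' ≫ j)) ey hy1.symm
  have hex1 : ex ≫ pullback.fst f k = pullback.fst (toS D) (m' ≫ j) := pullback.lift_fst _ _ _
  have hex2 : ex ≫ pullback.snd f k = ey := pullback.lift_snd _ _ _
  let ei : pullback (toS D) (m' ≫ j) ⟶ pullback T' m' :=
    pullback.lift ex (pullback.snd (toS D) (m' ≫ j))
      ((Category.assoc _ _ _).symm.trans ((congrArg (· ≫ g') hex2).trans hy2))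
  have he1 : eh ≫ pullback.fst (toS D) (m' ≫ j) = pullback.fst T' m' ≫ pullback.fst f k :=
    pullback.lift_fst _ _ _
  have he2 : eh ≫ pullback.snd (toS D) (m' ≫ j) = pullback.snd T' m' := pullback.lift_snd _ _ _
  have he3 : ei ≫ pullback.fst T' m' = ex := pullback.lift_fst _ _ _
  have he4 : ei ≫ pullback.snd T' m' = pullback.snd (toS D) (m' ≫ j) := pullback.lift_snd _ _ _
  let e : pullback T' m' ≅ pullback (toS D) (m' ≫ j) :=
    { hom := eh
      inv := ei
      hom_inv_id := by
        apply pullback.hom_ext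
        · rw [Category.assoc, he3, Category.id_comp]
          apply pullback.hom_ext
          · exact (Category.assoc _ _ _).trans ((congrArg (eh ≫ ·) hex1).trans he1)
          · refine (Category.assoc _ _ _).trans ((congrArg (eh ≫ ·) hex2).trans ?_)
            apply pullback.hom_ext
            · refine (Category.assoc _ _ _).trans ((congrArg (eh ≫ ·) hy1).trans ?_)
              rw [reassoc_of% he1, Category.assoc]
              exact congrArg (pullback.fst T' m' ≫ ·) pullback.condition
            · refine (Category.assoc _ _ _).trans ((congrArg (eh ≫ ·) hy2).trans ?_)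
              rw [reassoc_of% he2, Category.assoc]
              exact pullback.condition.symm
        · rw [Category.assoc, he4, he2, Category.id_comp]
      inv_hom_id := by
        apply pullback.hom_ext
        · rw [Category.assoc, he1, reassoc_of% he3, hex1, Category.id_comp]
        · rw [Category.assoc, he2, he4, Category.id_comp] }
  have hw : (eh ≫ t.q) ≫ t.a = pullback.snd T' m' := by rw [Category.assoc, t.w, he2]
  let t' : Tup (pull j D) m' := ⟨t.U, t.a, eh ≫ t.q, hw⟩
  refine ⟨t', hR, ?_, ?_⟩
  · let X' := pullback.snd g' m'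
    let F : pullback T' m' ⟶ pullback g' m' := fW (pull j D) m'
    have hF1 : F ≫ pullback.fst g' m' = pullback.fst T' m' ≫ pullback.snd f k :=
      pullback.lift_fst _ _ _
    have hF2 : F ≫ pullback.snd g' m' = pullback.snd T' m' := pullback.lift_snd _ _ _
    let κ' : pullback T' m' ⟶ pullback X' t.a := t'.κ
    have k1 : κ' ≫ pullback.fst X' t.a = F := t'.κ_fst
    have k2 : κ' ≫ pullback.snd X' t.a = eh ≫ t.q := t'.κ_snd
    let γ : pullback X' t.a ⟶ pullback (pullback.snd g (m' ≫ j)) t.a :=
      pullback.map X' t.a _ t.a εh (𝟙 _) (𝟙 _) (by rw [Category.comp_id, hh2]) (by simp)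
    haveI hεiso : IsIso εh := ⟨εi, ε.hom_inv_id, ε.inv_hom_id⟩
    haveI heiso : IsIso eh := ⟨ei, e.hom_inv_id, e.inv_hom_id⟩
    haveI : IsIso γ := pullback.map_isIso _ _ _ _ _ _ _ _ _
    have hκ : κ' ≫ γ = eh ≫ t.κ := by
      apply pullback.hom_ext
      · rw [Category.assoc, pullback.lift_fst, reassoc_of% k1, Category.assoc, Tup.κ_fst]
        apply pullback.hom_ext
        · rw [Category.assoc, Category.assoc, hh1, reassoc_of% hF1, fW_fst,
            reassoc_of% he1]
          exact congrArg (pullback.fst T' m' ≫ ·) pullback.condition.symm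
        · rw [Category.assoc, Category.assoc, hh2, hF2, fW_snd, he2]
      · rw [Category.assoc, pullback.lift_snd, Category.comp_id, k2, Category.assoc, Tup.κ_snd]
    show IsIso κ'
    have : κ' = (eh ≫ t.κ) ≫ inv γ := (IsIso.eq_comp_inv γ).2 hκ
    rw [this]; infer_instance
  · intro T v v' x h h1 h2
    let v₀ : T ⟶ pullback T' m' := v
    let v₀' : T ⟶ pullback T' m' := v'
    have h1' : v₀' ≫ pullback.fst T' m' =
        actW j D (v₀ ≫ pullback.fst T' m') x h := h1
    have h2' : v₀' ≫ pullback.snd T' m' = v₀ ≫ pullback.snd T' m' := h2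
    show v₀' ≫ eh ≫ t.q = v₀ ≫ eh ≫ t.q
    rw [← Category.assoc, ← Category.assoc]
    refine hc (v₀ ≫ eh) (v₀' ≫ eh) (x ≫ k) ?_ ?_ ?_
    · rw [Category.assoc v₀, he1, ← Category.assoc v₀]
      exact cond_pull j f (v₀ ≫ pullback.fst T' m') x h
    · refine (Category.assoc _ _ _).trans ((congrArg (v₀' ≫ ·) he1).trans ?_)
      refine ((Category.assoc _ _ _).symm.trans (congrArg (· ≫ pullback.fst f k) h1')).trans ?_
      refine (actW_fst j D (v₀ ≫ pullback.fst T' m') x h).trans ?_
      exact (preOf D).act_congr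
        (((Category.assoc _ _ _).trans (congrArg (v₀ ≫ ·) he1)).trans (Category.assoc _ _ _).symm).symm rfl _ _
    · rw [Category.assoc, Category.assoc, he2, h2']

/-- Effectivity after a faithfully flat quasi-compact extension of a base change gives effectivity
after the base change. -/
theorem good_of_fpqc_extension (hg : SGA1.UnivSubmersive g) [QuasiCompact g]
    [QuasiCompact (prj D)] [IsSeparated (prj D)] {W₀ W : Scheme.{u}} (j : W₀ ⟶ S) (m' : W ⟶ W₀)
    [Flat m'] [Surjective m'] [QuasiCompact m'] (h : Good D (m' ≫ j)) : Good D j := by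
  have : SGA1.UnivSubmersive.{u}.IsStableUnderBaseChange :=
    MorphismProperty.universally_isStableUnderBaseChange _
  obtain ⟨t, ht, hκ, hc⟩ := h
  haveI := hκ
  obtain ⟨hq, hs⟩ := t.props hg
  obtain ⟨t', ⟨⟨h1, h2⟩, h3⟩, hκ', hc'⟩ :=
    exists_tup_pull m' t hc (@Etale ⊓ @IsSeparated ⊓ @QuasiCompact) ⟨⟨ht, hs⟩, hq⟩
  haveI := h1; haveI := h2; haveI := h3; haveI := hκ'
  obtain ⟨d, hd, -, -⟩ := etEffective_of_fpqc t'
    (MorphismProperty.pullback_snd (P := SGA1.UnivSubmersive.{u}) _ _ hg) hc'
  exact good_iff.1 ⟨⟨d, hd⟩⟩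

/-- Effectivity after a faithfully flat extension of every local ring gives effectivity. -/
theorem etEffective_of_forall_faithfullyFlat (hg : SGA1.UnivSubmersive g)
    [LocallyOfFinitePresentation g] [QuasiCompact g] [QuasiSeparated g] [Etale (prj D)]
    [QuasiCompact (prj D)] [IsSeparated (prj D)]
    (h : ∀ a : S, ∃ (B : Type u) (_ : CommRing B) (φ : S.presheaf.stalk a ⟶ CommRingCat.of B),
      φ.hom.FaithfullyFlat ∧ Good D (Spec.map φ ≫ S.fromSpecStalk a)) :
    EtEffective (preOf D) := by
  haveI := surjective_of_univSubmersive hg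
  refine etEffective_of_forall_good hg fun a => exists_nhd a ?_
  obtain ⟨B, _, φ, hφ, hgood⟩ := h a
  obtain ⟨hflat, hsurj⟩ := RingHom.FaithfullyFlat.iff_flat_and_comap_surjective.1 hφ
  haveI : Flat (Spec.map φ) := (HasRingHomProperty.Spec_iff (P := @Flat)).2 hflat
  haveI : Surjective (Spec.map φ) := ⟨hsurj⟩
  exact good_of_fpqc_extension hg _ (Spec.map φ) hgood

end Groth.L27.EtGlue
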