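import Groth.Agent.L20.SchDesc.Basic
import Groth.Agent.L27.TopInv.Hom
import Mathlib.AlgebraicGeometry.Morphisms.Etale
import Mathlib.AlgebraicGeometry.PullbackCarrier
import Mathlib.AlgebraicGeometry.Gluing

/-!
# Gluing effective etale descent data along universally submersive morphisms

For a universally submersive morphism a descent datum is effective with etale descended scheme as
soon as the total space is covered by stable opens on which it is so.
-/

set_option autoImplicit false
set_option linter.style.haveILetI false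
set_option backward.isDefEq.respectTransparency.types false

universe u

open CategoryTheory Limits AlgebraicGeometry Groth.L20.SchDesc

namespace Groth.L27.EtGlue

variable {X S V : Scheme.{u}} {p : X ⟶ S} {f : V ⟶ X}

/-- An effective descent datum with etale descended scheme. -/
structure EtDescent (P : Pre p f) extends Descent P where
  etale : Etale a

/-- The descent datum is effective in etale schemes. -/
def EtEffective (P : Pre p f) : Prop := Nonempty (EtDescent P)

variable {P : Pre p f}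

theorem univSubmersive_q (hp : SGA1.UnivSubmersive p) (d : Descent P) : SGA1.UnivSubmersive d.q := by
  have : SGA1.UnivSubmersive.{u}.IsStableUnderBaseChange :=
    MorphismProperty.universally_isStableUnderBaseChange _
  exact MorphismProperty.of_isPullback (P := SGA1.UnivSubmersive.{u}) d.isPullback hp

theorem isQuotientMap_q (hp : SGA1.UnivSubmersive p) (d : Descent P) : Topology.IsQuotientMap d.q :=
  MorphismProperty.universally_le _ _ (univSubmersive_q hp d)

theorem surjective_q (hp : SGA1.UnivSubmersive p) (d : Descent P) : Function.Surjective d.q :=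
  (isQuotientMap_q hp d).surjective

/-- A morphism over `S` unchanged by the action into an etale scheme factors uniquely. -/
theorem existsUnique_factor (hp : SGA1.UnivSubmersive p) (d : Descent P) {Z : Scheme.{u}} (b : Z ⟶ S)
    [Etale b] (φ : V ⟶ Z) (hb : φ ≫ b = d.q ≫ d.a)
    (h : ∀ {T : Scheme.{u}} (v : T ⟶ V) (x : T ⟶ X) (e : v ≫ f ≫ p = x ≫ p),
      P.act v x e ≫ φ = v ≫ φ) :
    ∃! m : d.U ⟶ Z, m ≫ b = d.a ∧ d.q ≫ m = φ := by
  let E : pullback d.a p ≅ V := (IsPullback.of_hasPullback d.a p).isoIsPullback _ _ d.isPullback.flip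
  have hE : E.hom ≫ d.q = pullback.fst d.a p :=
    (IsPullback.of_hasPullback d.a p).isoIsPullback_hom_fst _ _ d.isPullback.flip
  have hφ : ∀ {T : Scheme.{u}} (g₁ g₂ : T ⟶ V), g₁ ≫ d.q = g₂ ≫ d.q → g₁ ≫ φ = g₂ ≫ φ :=
    fun g₁ g₂ e => ((congrArg (· ≫ φ) (d.act_eq g₁ g₂ e (d.cond g₁ g₂ e))).symm.trans (h _ _ _)).symm
  obtain ⟨m, ⟨hm1, hm2⟩, hm3⟩ := Groth.L27.TopInv.existsUnique_hom p hp d.a b (E.hom ≫ φ)
    (by rw [Category.assoc, hb, reassoc_of% hE]) (by
      rw [← Category.assoc, ← Category.assoc]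
      exact hφ _ _ (by rw [Category.assoc, Category.assoc, hE, pullback.condition]))
  refine ⟨m, ⟨hm1, ?_⟩, fun m' h' => hm3 m' ⟨h'.1, by rw [← h'.2, reassoc_of% hE]⟩⟩
  rw [← cancel_epi E.hom, reassoc_of% hE, hm2]

/-- A stable open is saturated for the projection to a descended scheme. -/
theorem mem_of_q_eq {O O' : V.Opens} (hO : Stable P O) (hO' : Stable P O')
    (d : Descent (restrict P hO)) {v w : O} (hv : v.1 ∈ O') (he : d.q v = d.q w) : w.1 ∈ O' := by
  obtain ⟨z, h1, h2⟩ := Scheme.Pullback.exists_preimage_pullback (f := d.q) (g := d.q) v w he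
  let T : (pullback d.q d.q).Opens := (pullback.fst d.q d.q ≫ O.ι) ⁻¹ᵁ O'
  have hz : z ∈ T := by
    show O.ι (pullback.fst d.q d.q z) ∈ O'
    rw [h1]
    exact hv
  have e : (T.ι ≫ pullback.fst d.q d.q) ≫ d.q = (T.ι ≫ pullback.snd d.q d.q) ≫ d.q := by
    rw [Category.assoc, Category.assoc, pullback.condition]
  have key := d.act_eq _ _ e (d.cond _ _ e)
  have key' := (restrict_act_ι P hO _ _ (d.cond _ _ e)).symm.trans (congrArg (· ≫ O.ι) key)
  have hr := hO' _ ((T.ι ≫ pullback.fst d.q d.q) ≫ O.ι) _ (cond_assoc O.ι _ (d.cond _ _ e))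
    (by rintro _ ⟨t, rfl⟩; exact t.2)
  rw [key'] at hr
  have hm := hr ⟨⟨z, hz⟩, rfl⟩
  change O.ι (pullback.snd d.q d.q z) ∈ O' at hm
  rwa [h2] at hm

theorem stable_inf {O O' : V.Opens} (h : Stable P O) (h' : Stable P O') : Stable P (O ⊓ O') :=
  fun T v x e hv => Set.subset_inter (h T v x e (hv.trans Set.inter_subset_left))
    (h' T v x e (hv.trans Set.inter_subset_right))

theorem restrict_act_homOfLE {O O' : V.Opens} (hle : O' ≤ O) (hO : Stable P O) (hO' : Stable P O')
    {T : Scheme.{u}} (v : T ⟶ O') (x : T ⟶ X) (h : v ≫ (O'.ι ≫ f) ≫ p = x ≫ p)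
    (h' : (v ≫ V.homOfLE hle) ≫ (O.ι ≫ f) ≫ p = x ≫ p) :
    (restrict P hO').act v x h ≫ V.homOfLE hle = (restrict P hO).act (v ≫ V.homOfLE hle) x h' := by
  rw [← cancel_mono O.ι, Category.assoc, V.homOfLE_ι, restrict_act_ι, restrict_act_ι]
  exact P.act_congr (by rw [Category.assoc, V.homOfLE_ι]) rfl _ _

theorem restrict_comm {O O' : V.Opens} (hle : O' ≤ O) (hO : Stable P O) (hO' : Stable P O')
    (d : Descent (restrict P hO)) {T : Scheme.{u}} (v : T ⟶ O') (x : T ⟶ X)
    (h : v ≫ (O'.ι ≫ f) ≫ p = x ≫ p) :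
    (restrict P hO').act v x h ≫ V.homOfLE hle ≫ d.q = v ≫ V.homOfLE hle ≫ d.q := by
  have h' : (v ≫ V.homOfLE hle) ≫ (O.ι ≫ f) ≫ p = x ≫ p := by
    refine Eq.trans ?_ h
    simp
  rw [← Category.assoc, restrict_act_homOfLE hle hO hO' v x h h', d.comm, Category.assoc]

/-- The image of a smaller stable open in a descended scheme. -/
def imageOpen (hp : SGA1.UnivSubmersive p) {O O' : V.Opens} (hO : Stable P O) (hO' : Stable P O')
    (d : Descent (restrict P hO)) : d.U.Opens :=
  ⟨d.q '' ((O.ι ⁻¹ᵁ O' : O.toScheme.Opens) : Set O), by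
    rw [← (isQuotientMap_q hp d).isOpen_preimage]
    convert (O.ι ⁻¹ᵁ O').2 using 1
    exact Set.Subset.antisymm (fun w ⟨v, hv, he⟩ => mem_of_q_eq hO hO' d hv he)
      (Set.subset_preimage_image _ _)⟩

theorem preimage_imageOpen (hp : SGA1.UnivSubmersive p) {O O' : V.Opens} (hO : Stable P O)
    (hO' : Stable P O') (d : Descent (restrict P hO)) :
    d.q ⁻¹ᵁ imageOpen hp hO hO' d = O.ι ⁻¹ᵁ O' :=
  TopologicalSpace.Opens.ext (Set.Subset.antisymm (fun _ ⟨_, hv, he⟩ => mem_of_q_eq hO hO' d hv he)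
    (Set.subset_preimage_image _ _))

theorem range_subset_imageOpen (hp : SGA1.UnivSubmersive p) {O O' : V.Opens} (hle : O' ≤ O)
    (hO : Stable P O) (hO' : Stable P O') (d : Descent (restrict P hO)) :
    Set.range (V.homOfLE hle ≫ d.q) ⊆ Set.range (imageOpen hp hO hO' d).ι := by
  rw [Scheme.Opens.range_ι]
  rintro _ ⟨t, rfl⟩
  exact ⟨V.homOfLE hle t, by simp, rfl⟩

/-- The descended scheme of a smaller stable open. -/
noncomputable def sub (hp : SGA1.UnivSubmersive p) {O O' : V.Opens} (hle : O' ≤ O) (hO : Stable P O)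
    (hO' : Stable P O') (d : EtDescent (restrict P hO)) : EtDescent (restrict P hO') where
  U := imageOpen hp hO hO' d.toDescent
  a := (imageOpen hp hO hO' d.toDescent).ι ≫ d.a
  q := IsOpenImmersion.lift (imageOpen hp hO hO' d.toDescent).ι (V.homOfLE hle ≫ d.q)
    (range_subset_imageOpen hp hle hO hO' d.toDescent)
  isPullback := by
    have h := IsOpenImmersion.isPullback (IsOpenImmersion.lift (imageOpen hp hO hO' d.toDescent).ι
      (V.homOfLE hle ≫ d.q) (range_subset_imageOpen hp hle hO hO' d.toDescent)) (V.homOfLE hle)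
      (imageOpen hp hO hO' d.toDescent).ι d.q (IsOpenImmersion.lift_fac _ _ _).symm (by
        rw [Scheme.Opens.opensRange_ι, preimage_imageOpen, Scheme.opensRange_homOfLE])
    have h' := h.flip.paste_horiz d.isPullback
    rw [← Category.assoc, V.homOfLE_ι] at h'
    exact h'
  comm v x h := (cancel_mono (imageOpen hp hO hO' d.toDescent).ι).1 <| by
    rw [Category.assoc, Category.assoc, IsOpenImmersion.lift_fac]
    exact restrict_comm hle hO hO' d.toDescent v x h
  etale := by
    haveI := d.etale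
    infer_instance

/-- The stable opens on which the datum is effective. -/
abbrev Piece (P : Pre p f) : Type u :=
  {O : V.Opens // ∃ hO : Stable P O, EtEffective (restrict P hO)}

namespace Piece

variable (P)

/-- The chosen descended scheme of a piece. -/
noncomputable def desc (i : Piece P) : EtDescent (restrict P i.2.1) := i.2.2.some

instance (i : Piece P) : Etale (desc P i).a := (desc P i).etale

variable {P}

theorem sq {i j : Piece P} (h : i ≤ j) :
    (V.homOfLE h ≫ (desc P j).q) ≫ (desc P j).a = (desc P i).q ≫ (desc P i).a := by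
  rw [Category.assoc, ← (desc P j).isPullback.w, ← (desc P i).isPullback.w, ← Category.assoc,
    ← Category.assoc (V.homOfLE h), V.homOfLE_ι]

theorem exists_map (hp : SGA1.UnivSubmersive p) {i j : Piece P} (h : i ≤ j) :
    ∃! m : (desc P i).U ⟶ (desc P j).U,
      m ≫ (desc P j).a = (desc P i).a ∧ (desc P i).q ≫ m = V.homOfLE h ≫ (desc P j).q :=
  existsUnique_factor hp (desc P i).toDescent (desc P j).a _ (sq h)
    (restrict_comm h _ _ (desc P j).toDescent)

/-- The transition map of two pieces. -/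
noncomputable def map (hp : SGA1.UnivSubmersive p) {i j : Piece P} (h : i ≤ j) :
    (desc P i).U ⟶ (desc P j).U :=
  (exists_map hp h).choose

theorem map_a (hp : SGA1.UnivSubmersive p) {i j : Piece P} (h : i ≤ j) :
    map hp h ≫ (desc P j).a = (desc P i).a :=
  (exists_map hp h).choose_spec.1.1

theorem q_map (hp : SGA1.UnivSubmersive p) {i j : Piece P} (h : i ≤ j) :
    (desc P i).q ≫ map hp h = V.homOfLE h ≫ (desc P j).q :=
  (exists_map hp h).choose_spec.1.2

theorem map_eq (hp : SGA1.UnivSubmersive p) {i j : Piece P} (h : i ≤ j)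
    {m : (desc P i).U ⟶ (desc P j).U} (ha : m ≫ (desc P j).a = (desc P i).a)
    (hm : (desc P i).q ≫ m = V.homOfLE h ≫ (desc P j).q) : map hp h = m :=
  ((exists_map hp h).choose_spec.2 m ⟨ha, hm⟩).symm

theorem isOpenImmersion_map (hp : SGA1.UnivSubmersive p) {i j : Piece P} (h : i ≤ j) :
    IsOpenImmersion (map hp h) := by
  let W := imageOpen hp j.2.1 i.2.1 (desc P j).toDescent
  let d' := sub hp h j.2.1 i.2.1 (desc P j)
  haveI := d'.etale
  have hW : IsOpenImmersion W.ι := inferInstance
  have hq' : d'.q ≫ W.ι = V.homOfLE h ≫ (desc P j).q := @IsOpenImmersion.lift_fac _ _ _ W.ι _ hW _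
  obtain ⟨m, ⟨hm1, hm2⟩, -⟩ := existsUnique_factor hp (desc P i).toDescent d'.a d'.q
    (by rw [← sq h, ← hq', Category.assoc]; rfl) d'.comm
  obtain ⟨n, ⟨hn1, hn2⟩, -⟩ := existsUnique_factor hp d'.toDescent (desc P i).a (desc P i).q
    ((desc P i).isPullback.w.symm.trans d'.isPullback.w) (desc P i).comm
  obtain ⟨m₁, -, hu₁⟩ := existsUnique_factor hp (desc P i).toDescent (desc P i).a (desc P i).q rfl
    (desc P i).comm
  obtain ⟨m₂, -, hu₂⟩ := existsUnique_factor hp d'.toDescent d'.a d'.q rfl d'.comm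
  have h1 : m ≫ n = 𝟙 _ :=
    (hu₁ _ ⟨by rw [Category.assoc, hn1, hm1], by rw [reassoc_of% hm2, hn2]⟩).trans
      (hu₁ _ ⟨Category.id_comp _, Category.comp_id _⟩).symm
  have h2 : n ≫ m = 𝟙 _ :=
    (hu₂ _ ⟨by rw [Category.assoc, hm1, hn1], by rw [reassoc_of% hn2, hm2]⟩).trans
      (hu₂ _ ⟨Category.id_comp _, Category.comp_id _⟩).symm
  let m' : (desc P i).U ⟶ W.toScheme := m
  haveI : IsIso m' := ⟨n, h1, h2⟩
  have : map hp h = m' ≫ W.ι := map_eq hp h ((Category.assoc _ _ _).trans hm1)
    ((Category.assoc _ _ _).symm.trans ((congrArg (· ≫ W.ι) hm2).trans hq'))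
  rw [this]
  exact inferInstanceAs (IsOpenImmersion (m' ≫ W.ι))

variable (P)

/-- The diagram of descended schemes. -/
noncomputable def diagram (hp : SGA1.UnivSubmersive p) : Piece P ⥤ Scheme.{u} where
  obj i := (desc P i).U
  map h := map hp (leOfHom h)
  map_id i := map_eq hp _ (Category.id_comp _) (by simp)
  map_comp {i j k} g g' := map_eq hp _ (by rw [Category.assoc, map_a, map_a]) (by
    rw [reassoc_of% (q_map hp (leOfHom g)), q_map, V.homOfLE_homOfLE_assoc])

instance (hp : SGA1.UnivSubmersive p) {i j : Piece P} (h : i ⟶ j) :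
    IsOpenImmersion ((diagram P hp).map h) :=
  isOpenImmersion_map hp (leOfHom h)

variable {P}

/-- The meet of two pieces is a piece. -/
def inf (hp : SGA1.UnivSubmersive p) (i j : Piece P) : Piece P :=
  ⟨i.1 ⊓ j.1, stable_inf i.2.1 j.2.1,
    ⟨sub hp inf_le_left i.2.1 (stable_inf i.2.1 j.2.1) (desc P i)⟩⟩

theorem q_map_apply (hp : SGA1.UnivSubmersive p) {i j : Piece P} (h : i ≤ j) (v : i.1) :
    map hp h ((desc P i).q v) = (desc P j).q ⟨v.1, h v.2⟩ := by
  rw [← Scheme.Hom.comp_apply, q_map, Scheme.Hom.comp_apply]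
  exact congrArg _ (Subtype.ext (by simp))

instance (hp : SGA1.UnivSubmersive p) : ((diagram P hp) ⋙ Scheme.forget).IsLocallyDirected where
  cond {i j k} fi fj xi xj h := by
    obtain ⟨v, rfl⟩ := surjective_q hp (desc P i).toDescent xi
    obtain ⟨w, rfl⟩ := surjective_q hp (desc P j).toDescent xj
    change map hp (leOfHom fi) ((desc P i).q v) = map hp (leOfHom fj) ((desc P j).q w) at h
    have hk := (q_map_apply hp (leOfHom fi) v).symm.trans (h.trans (q_map_apply hp (leOfHom fj) w))
    have hwi : w.1 ∈ i.1 := mem_of_q_eq k.2.1 i.2.1 (desc P k).toDescent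
      (v := ⟨v.1, leOfHom fi v.2⟩) (w := ⟨w.1, leOfHom fj w.2⟩) v.2 hk
    have hl : inf hp i j ≤ i := (inf_le_left : i.1 ⊓ j.1 ≤ i.1)
    have hl' : inf hp i j ≤ j := (inf_le_right : i.1 ⊓ j.1 ≤ j.1)
    refine ⟨inf hp i j, homOfLE hl, homOfLE hl', (desc P (inf hp i j)).q ⟨w.1, hwi, w.2⟩, ?_, ?_⟩
    · refine (q_map_apply hp hl _).trans ?_
      apply (isOpenImmersion_map hp (leOfHom fi)).base_open.injective
      refine ((q_map_apply hp (leOfHom fi) _).trans ?_).trans h.symm
      exact (q_map_apply hp (leOfHom fj) w).symm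
    · exact (q_map_apply hp hl' _).trans rfl

end Piece

open Piece in
/-- A descent datum is effective in etale schemes if it is so on a stable open cover. -/
theorem etEffective_of_cover (hp : SGA1.UnivSubmersive p) (P : Pre p f)
    (h : ∀ v : V, ∃ O : V.Opens, v ∈ O ∧ ∃ hO : Stable P O, EtEffective (restrict P hO)) :
    EtEffective P := by
  have hcov : TopologicalSpace.IsOpenCover fun i : Piece P => i.1 :=
    TopologicalSpace.IsOpenCover.mk (eq_top_iff.2 fun v _ => by
      obtain ⟨O, hv, hO⟩ := h v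
      exact TopologicalSpace.Opens.mem_iSup.2 ⟨⟨O, hO⟩, hv⟩)
  let 𝒰 := V.openCoverOfIsOpenCover _ hcov
  let ι (i : Piece P) : (desc P i).U ⟶ colimit (diagram P hp) := colimit.ι (diagram P hp) i
  have hι : ∀ {i j : Piece P} (h : i ≤ j), map hp h ≫ ι j = ι i := fun {i j} h =>
    colimit.w (diagram P hp) (homOfLE h)
  have hq : ∀ (i j : Piece P),
      pullback.fst i.1.ι j.1.ι ≫ (desc P i).q ≫ ι i =
        pullback.snd i.1.ι j.1.ι ≫ (desc P j).q ≫ ι j := by
    intro i j
    let l : pullback i.1.ι j.1.ι ⟶ (inf hp i j).1 :=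
      IsOpenImmersion.lift (inf hp i j).1.ι (pullback.fst i.1.ι j.1.ι ≫ i.1.ι) (by
        rw [Scheme.Opens.range_ι]
        rintro _ ⟨t, rfl⟩
        refine ⟨(pullback.fst i.1.ι j.1.ι t).2, ?_⟩
        rw [pullback.condition]
        exact (pullback.snd i.1.ι j.1.ι t).2)
    have l1 : inf hp i j ≤ i := (inf_le_left : i.1 ⊓ j.1 ≤ i.1)
    have l2 : inf hp i j ≤ j := (inf_le_right : i.1 ⊓ j.1 ≤ j.1)
    have h1 : l ≫ V.homOfLE (l1 : (inf hp i j).1 ≤ i.1) = pullback.fst _ _ := by
      rw [← cancel_mono i.1.ι, Category.assoc, V.homOfLE_ι, IsOpenImmersion.lift_fac]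
    have h2 : l ≫ V.homOfLE (l2 : (inf hp i j).1 ≤ j.1) = pullback.snd _ _ := by
      rw [← cancel_mono j.1.ι, Category.assoc, V.homOfLE_ι, IsOpenImmersion.lift_fac,
        pullback.condition]
    rw [← h1, ← h2, Category.assoc, Category.assoc, ← reassoc_of% (q_map hp l1),
      ← reassoc_of% (q_map hp l2), hι, hι]
  have hιopen : ∀ i : Piece P, IsOpenImmersion (ι i) := fun i =>
    inferInstanceAs (IsOpenImmersion (colimit.ι (diagram P hp) i))
  let q : V ⟶ colimit (diagram P hp) := 𝒰.glueMorphisms (fun i => (desc P i).q ≫ ι i) hq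
  have hqι : ∀ i : Piece P, i.1.ι ≫ q = (desc P i).q ≫ ι i := fun i =>
    𝒰.ι_glueMorphisms _ hq i
  let a : colimit (diagram P hp) ⟶ S := colimit.desc (diagram P hp)
    { pt := S
      ι := { app := fun i => (desc P i).a
             naturality := fun i j g => (map_a hp (leOfHom g)).trans (Category.comp_id _).symm } }
  have hιa : ∀ i : Piece P, ι i ≫ a = (desc P i).a := fun i => colimit.ι_desc _ _
  have hetale : Etale a := by
    refine (IsZariskiLocalAtSource.iff_of_openCover (P := @Etale)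
      (Scheme.IsLocallyDirected.openCover (diagram P hp))).2 fun (i : Piece P) => ?_
    show Etale (ι i ≫ a)
    rw [hιa]
    infer_instance
  have hsq : f ≫ p = q ≫ a := by
    refine 𝒰.hom_ext _ _ fun (i : Piece P) => ?_
    show i.1.ι ≫ f ≫ p = i.1.ι ≫ q ≫ a
    rw [reassoc_of% (hqι i), hιa, ← (desc P i).isPullback.w, Category.assoc]
  have hpre : ∀ i : Piece P, q ⁻¹ᵁ (ι i).opensRange = i.1 := by
    intro i
    refine TopologicalSpace.Opens.ext (Set.Subset.antisymm ?_ ?_)
    · rintro v ⟨x, hx⟩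
      obtain ⟨j, hvj⟩ := hcov.exists_mem v
      have hjv : q v = ι j ((desc P j).q ⟨v, hvj⟩) :=
        congrArg (fun m => m (⟨v, hvj⟩ : j.1)) (hqι j)
      obtain ⟨k, fi, fj, y, hyi, hyj⟩ :=
        Scheme.IsLocallyDirected.ι_eq_ι_iff (F := diagram P hp) (xi := x)
          (xj := (desc P j).q ⟨v, hvj⟩) |>.1 (hx.trans hjv)
      obtain ⟨w, rfl⟩ := surjective_q hp (desc P k).toDescent y
      exact leOfHom fi (mem_of_q_eq j.2.1 k.2.1 (desc P j).toDescent (v := ⟨w.1, leOfHom fj w.2⟩)
        (w := ⟨v, hvj⟩) w.2 ((q_map_apply hp (leOfHom fj) w).symm.trans hyj))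
    · intro v hv
      exact ⟨(desc P i).q ⟨v, hv⟩, (congrArg (fun m => m (⟨v, hv⟩ : i.1)) (hqι i)).symm⟩
  have hpb : IsPullback f q p a := by
    let κ : V ⟶ pullback p a := pullback.lift f q hsq
    have hκ : IsIso κ := by
      refine (MorphismProperty.isomorphisms.iff κ).1
        ((IsZariskiLocalAtTarget.iff_of_openCover (P := MorphismProperty.isomorphisms Scheme.{u})
          ((Scheme.IsLocallyDirected.openCover (diagram P hp)).pullback₁ (pullback.snd p a))).2
          fun (i : Piece P) => ?_)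
      have hV : IsPullback i.1.ι (desc P i).q q (ι i) := by
        refine (IsOpenImmersion.isPullback (desc P i).q i.1.ι (ι i) q (hqι i) ?_).flip
        rw [hpre, Scheme.Opens.opensRange_ι]
      have h1 := IsPullback.of_hasPullback κ (pullback.fst (pullback.snd p a) (ι i))
      have h2 := h1.paste_vert (IsPullback.of_hasPullback (pullback.snd p a) (ι i))
      have hκq : κ ≫ pullback.snd p a = q := pullback.lift_snd _ _ _
      rw [hκq] at h2
      let e := h2.isoIsPullback _ _ hV
      refine (MorphismProperty.isomorphisms.iff _).2 ?_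
      show IsIso (pullback.snd κ (pullback.fst (pullback.snd p a) (ι i)))
      have h3 : IsPullback (pullback.fst (pullback.snd p a) (ι i) ≫ pullback.fst p a)
          (pullback.snd (pullback.snd p a) (ι i)) p (desc P i).a := by
        have h4 := (IsPullback.of_hasPullback (pullback.snd p a) (ι i)).flip.paste_vert
          (IsPullback.of_hasPullback p a).flip
        rw [hιa] at h4
        exact h4.flip
      have : pullback.snd κ (pullback.fst (pullback.snd p a) (ι i)) =
          e.hom ≫ ((desc P i).isPullback.isoIsPullback _ _ h3).hom := by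
        have hfst : (e.hom ≫ ((desc P i).isPullback.isoIsPullback _ _ h3).hom) ≫
            pullback.fst (pullback.snd p a) (ι i) ≫ pullback.fst p a =
            pullback.fst κ _ ≫ f := by
          rw [Category.assoc, IsPullback.isoIsPullback_hom_fst, ← Category.assoc,
            IsPullback.isoIsPullback_hom_fst]
        apply h3.hom_ext
        · rw [hfst, ← Category.assoc, ← pullback.condition, Category.assoc, pullback.lift_fst]
        · rw [Category.assoc, IsPullback.isoIsPullback_hom_snd, IsPullback.isoIsPullback_hom_snd]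
      rw [this]
      infer_instance
    exact IsPullback.of_iso (IsPullback.of_hasPullback p a) (asIso κ).symm (Iso.refl _) (Iso.refl _)
      (Iso.refl _) ((Category.comp_id _).trans ((IsIso.eq_inv_comp κ).2 (pullback.lift_fst _ _ _)))
      ((Category.comp_id _).trans ((IsIso.eq_inv_comp κ).2 (pullback.lift_snd _ _ _))) (by simp) (by simp)
  refine ⟨⟨⟨colimit (diagram P hp), a, q, hpb, fun {T} v x hv => ?_⟩, hetale⟩⟩
  refine Scheme.Cover.hom_ext (T.openCoverOfIsOpenCover _ (hcov.comap ⟨v, v.continuous⟩)) _ _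
    fun (i : Piece P) => ?_
  show (v ⁻¹ᵁ i.1).ι ≫ P.act v x hv ≫ q = (v ⁻¹ᵁ i.1).ι ≫ v ≫ q
  have hv' : ((v ⁻¹ᵁ i.1).ι ≫ v) = (v ∣_ i.1) ≫ i.1.ι := (morphismRestrict_ι v i.1).symm
  have hc : (v ∣_ i.1) ≫ (i.1.ι ≫ f) ≫ p = ((v ⁻¹ᵁ i.1).ι ≫ x) ≫ p := by
    rw [Category.assoc i.1.ι, ← Category.assoc (v ∣_ i.1), ← hv', Category.assoc, hv,
      Category.assoc]
  rw [← Category.assoc, P.natural' (v ⁻¹ᵁ i.1).ι v x hv (cond_assoc i.1.ι _ hc) hv' rfl,
    ← restrict_act_ι P i.2.1 _ _ hc, Category.assoc, hqι, ← Category.assoc,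
    (desc P i).comm, Category.assoc, ← hqι, ← Category.assoc, ← hv', Category.assoc]

end Groth.L27.EtGlue
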