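import Groth.Agent.L27.EtGlue.Nested
import Groth.Agent.L01.AdicNoeth
import Groth.Agent.S2363
import Mathlib.RingTheory.AdicCompletion.LocalRing
import Mathlib.RingTheory.AdicCompletion.AsTensorProduct
import Mathlib.RingTheory.Flat.FaithfullyFlat.Algebra
import Mathlib.RingTheory.RingHom.FaithfullyFlat
import Mathlib.FieldTheory.IsAlgClosed.AlgebraicClosure

/-!
# Faithfully flat complete local extensions of Noetherian local rings
-/

set_option autoImplicit false
set_option linter.style.haveILetI false

universe u

open IsLocalRing

namespace Groth.L27.EtGlue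

variable (B : Type u) [CommRing B] [IsNoetherianRing B] [IsLocalRing B]

theorem surjective_residue_completion :
    Function.Surjective ⇑(ResidueField.map (algebraMap B (AdicCompletion (maximalIdeal B) B))) := by
  intro y
  obtain ⟨x, rfl⟩ := residue_surjective y
  obtain ⟨b, hb⟩ := Ideal.Quotient.mk_surjective (AdicCompletion.evalOneₐ (maximalIdeal B) x)
  refine ⟨residue B b, ?_⟩
  rw [ResidueField.map_residue]
  refine (Ideal.Quotient.mk_eq_mk_iff_sub_mem _ _).2 ?_
  rw [AdicCompletion.maximalIdeal_eq_map,
    ← AdicCompletion.ker_evalOneₐ_eq_map _ (maximalIdeal B).fg_of_isNoetherianRing, RingHom.mem_ker,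
    map_sub, sub_eq_zero]
  exact ((AdicCompletion.evalOneₐ (maximalIdeal B)).commutes b).trans hb

/-- The completion of a Noetherian local ring with algebraically closed residue field. -/
theorem isAlgClosed_residue_completion [IsAlgClosed (ResidueField B)] :
    IsAlgClosed (ResidueField (AdicCompletion (maximalIdeal B) B)) :=
  IsAlgClosed.of_ringEquiv _ _ (RingEquiv.ofBijective
    (ResidueField.map (algebraMap B (AdicCompletion (maximalIdeal B) B)))
    ⟨RingHom.injective _, surjective_residue_completion B⟩)

theorem faithfullyFlat_completion :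
    (algebraMap B (AdicCompletion (maximalIdeal B) B)).FaithfullyFlat :=
  RingHom.faithfullyFlat_algebraMap_iff.2 Module.FaithfullyFlat.of_flat_of_isLocalHom

variable (A : Type u) [CommRing A] [IsNoetherianRing A] [IsLocalRing A]

/-- A Noetherian local ring has a faithfully flat complete local extension with algebraically
closed residue field. -/
theorem exists_complete_algClosed :
    ∃ (C : Type u) (_ : CommRing C) (_ : IsNoetherianRing C) (_ : IsLocalRing C)
      (_ : IsAdicComplete (maximalIdeal C) C) (_ : IsAlgClosed (ResidueField C)) (φ : A →+* C),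
      φ.FaithfullyFlat := by
  obtain ⟨R, _, _, hN, hL, hloc, hflat, e, -⟩ :=
    Groth.Agent.S2363.result (A := A) (AlgebraicClosure (ResidueField A))
  haveI := hN; haveI := hL; haveI := hloc; haveI := hflat
  have hmax : ((maximalIdeal A).map (algebraMap A R)).IsMaximal :=
    Ideal.Quotient.maximal_of_isField _ (e.toMulEquiv.isField (Field.toIsField _))
  have hm : (maximalIdeal A).map (algebraMap A R) = maximalIdeal R := IsLocalRing.eq_maximalIdeal hmax
  haveI : IsAlgClosed (ResidueField R) := by
    refine IsAlgClosed.of_ringEquiv (AlgebraicClosure (ResidueField A)) _ ?_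
    exact (e.symm.trans (Ideal.quotEquivOfEq hm))
  haveI := isAlgClosed_residue_completion R
  haveI : IsNoetherianRing (AdicCompletion (maximalIdeal R) R) :=
    Groth.L01.AdicNoeth.isNoetherianRing_adicCompletion _ (maximalIdeal R).fg_of_isNoetherianRing
  refine ⟨AdicCompletion (maximalIdeal R) R, inferInstance, inferInstance, inferInstance,
    inferInstance, inferInstance, (algebraMap R _).comp (algebraMap A R), ?_⟩
  haveI : Module.FaithfullyFlat A R := Module.FaithfullyFlat.of_flat_of_isLocalHom
  exact RingHom.FaithfullyFlat.stableUnderComposition _ _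
    (RingHom.faithfullyFlat_algebraMap_iff.2 inferInstance) (faithfullyFlat_completion R)

end Groth.L27.EtGlue
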