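import Groth.Agent.L27.EtGlue.Model
import Groth.Agent.L20.SchDesc.Main
import Groth.Agent.L23.Descent
import Groth.Agent.S1402
import Groth.Agent.L23.QFDescent
import Groth.Agent.L27.SGA1.SubmersiveDescent
import Mathlib.AlgebraicGeometry.Morphisms.LocalFlatDescent

/-!
# Etale effectivity of a descent datum descends along fpqc base change
-/

set_option autoImplicit false
set_option linter.style.haveILetI false
set_option backward.isDefEq.respectTransparency.types false

universe u

open CategoryTheory Limits AlgebraicGeometry Groth.L20.SchDesc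

namespace Groth.L27.EtGlue

variable {S' S : Scheme.{u}} {g : S' ⟶ S} {D : Desc.SchDDFam (fun _ : PUnit.{1} => g)}
  {W : Scheme.{u}} {m : W ⟶ S} (t : Tup D m)

theorem Tup.univSubmersive_q (hg : SGA1.UnivSubmersive g) [IsIso t.κ] :
    SGA1.UnivSubmersive t.q := by
  have : SGA1.UnivSubmersive.{u}.IsStableUnderBaseChange :=
    MorphismProperty.universally_isStableUnderBaseChange _
  have h : SGA1.UnivSubmersive (pullback.snd (pullback.snd g m) t.a) :=
    MorphismProperty.pullback_snd (P := SGA1.UnivSubmersive.{u}) _ _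
      (MorphismProperty.pullback_snd (P := SGA1.UnivSubmersive.{u}) _ _ hg)
  rw [← t.κ_snd]
  exact (MorphismProperty.cancel_left_of_respectsIso SGA1.UnivSubmersive.{u} t.κ _).2 h

/-- Two points of the total space with the same image are translates. -/
theorem Tup.kernel [IsIso t.κ] (hc : t.Comm) {T : Scheme.{u}}
    (z₁ z₂ : T ⟶ pullback (toS D) m) (e : z₁ ≫ t.q = z₂ ≫ t.q) :
    ∃ (h : (z₁ ≫ pullback.fst (toS D) m) ≫ prj D ≫ g =
        ((z₂ ≫ pullback.fst (toS D) m) ≫ prj D) ≫ g),
      z₂ ≫ pullback.fst (toS D) m =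
        (preOf D).act (z₁ ≫ pullback.fst (toS D) m) ((z₂ ≫ pullback.fst (toS D) m) ≫ prj D) h := by
  have hs : z₁ ≫ pullback.snd (toS D) m = z₂ ≫ pullback.snd (toS D) m := by
    rw [← t.w, reassoc_of% e]
  have h : (z₁ ≫ pullback.fst (toS D) m) ≫ prj D ≫ g =
      ((z₂ ≫ pullback.fst (toS D) m) ≫ prj D) ≫ g := by
    simp only [Category.assoc]
    show z₁ ≫ pullback.fst (toS D) m ≫ toS D = z₂ ≫ pullback.fst (toS D) m ≫ toS D
    rw [pullback.condition, reassoc_of% hs]
  refine ⟨h, ?_⟩
  let w := (preOf D).act (z₁ ≫ pullback.fst (toS D) m) ((z₂ ≫ pullback.fst (toS D) m) ≫ prj D) h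
  let z : T ⟶ pullback (toS D) m := pullback.lift w (z₁ ≫ pullback.snd (toS D) m) (by
    refine ((preOf D).hom_p _ _ h).trans (h.symm.trans ?_)
    simp only [Category.assoc]
    exact congrArg (z₁ ≫ ·) pullback.condition)
  have hz : z ≫ t.q = z₁ ≫ t.q :=
    hc z₁ z _ h (pullback.lift_fst _ _ _) (pullback.lift_snd _ _ _)
  have : z = z₂ := by
    rw [← cancel_mono t.κ]
    apply pullback.hom_ext
    · simp only [Category.assoc, Tup.κ_fst]
      apply pullback.hom_ext
      · simp only [Category.assoc, fW_fst]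
        rw [pullback.lift_fst_assoc]
        exact ((preOf D).hom _ _ h).trans (Category.assoc _ _ _)
      · simp only [Category.assoc, fW_snd]
        rw [pullback.lift_snd]
        exact hs
    · simp only [Category.assoc, Tup.κ_snd]
      rw [hz, e]
  exact (congrArg (· ≫ pullback.fst (toS D) m) this).symm.trans (pullback.lift_fst _ _ _)

/-- `w` is the translate of `v` over `x`. -/
def Tup.Moved {T : Scheme.{u}} (v : T ⟶ t.U) (x : T ⟶ W) (w : T ⟶ t.U) : Prop :=
  w ≫ t.a = x ∧ ∀ ⦃T' : Scheme.{u}⦄ (r : T' ⟶ T) (z z' : T' ⟶ pullback (toS D) m),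
    z ≫ t.q = r ≫ v → z' ≫ pullback.fst (toS D) m = z ≫ pullback.fst (toS D) m →
      z' ≫ pullback.snd (toS D) m = r ≫ x → z' ≫ t.q = r ≫ w

theorem Tup.moved_cond {T T' : Scheme.{u}} (v : T ⟶ t.U) (x : T ⟶ W) (h : v ≫ t.a ≫ m = x ≫ m)
    (r : T' ⟶ T) (z : T' ⟶ pullback (toS D) m) (hz : z ≫ t.q = r ≫ v) :
    (z ≫ pullback.fst (toS D) m) ≫ toS D = (r ≫ x) ≫ m := by
  rw [Category.assoc, pullback.condition, ← t.w, Category.assoc, reassoc_of% hz, h, Category.assoc]

theorem Tup.existsUnique_moved (hg : SGA1.UnivSubmersive g) [Etale t.a] [IsIso t.κ] (hc : t.Comm)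
    {T : Scheme.{u}} (v : T ⟶ t.U) (x : T ⟶ W) (h : v ≫ t.a ≫ m = x ≫ m) :
    ∃! w, t.Moved v x w := by
  have : SGA1.UnivSubmersive.{u}.IsStableUnderBaseChange :=
    MorphismProperty.universally_isStableUnderBaseChange _
  let T₀ := pullback v t.q
  let r : T₀ ⟶ T := pullback.fst v t.q
  let z : T₀ ⟶ pullback (toS D) m := pullback.snd v t.q
  have hr : SGA1.UnivSubmersive r :=
    MorphismProperty.pullback_fst (P := SGA1.UnivSubmersive.{u}) _ _ (t.univSubmersive_q hg)
  let z' : T₀ ⟶ pullback (toS D) m := pullback.lift (z ≫ pullback.fst (toS D) m) (r ≫ x)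
    (t.moved_cond v x h r z pullback.condition.symm)
  have hz'1 : z' ≫ pullback.fst (toS D) m = z ≫ pullback.fst (toS D) m := pullback.lift_fst _ _ _
  let φ : T₀ ⟶ pullback x t.a := pullback.lift r (z' ≫ t.q) (by
    rw [Category.assoc, t.w, pullback.lift_snd])
  haveI : Etale (pullback.fst x t.a) := MorphismProperty.pullback_fst _ _ inferInstance
  have hcoc : pullback.fst r r ≫ φ = pullback.snd r r ≫ φ := by
    apply pullback.hom_ext
    · simp only [φ, Category.assoc, pullback.lift_fst, pullback.condition]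
    · simp only [φ, Category.assoc, pullback.lift_snd]
      rw [← Category.assoc, ← Category.assoc]
      obtain ⟨h₀, e₀⟩ := t.kernel hc (pullback.fst r r ≫ z) (pullback.snd r r ≫ z) (by
        simp only [Category.assoc]
        show pullback.fst r r ≫ pullback.snd v t.q ≫ t.q = pullback.snd r r ≫ pullback.snd v t.q ≫ t.q
        rw [← pullback.condition, pullback.condition_assoc])
      refine (hc (pullback.fst r r ≫ z') (pullback.snd r r ≫ z')
        (((pullback.snd r r ≫ z) ≫ pullback.fst (toS D) m) ≫ prj D) ?_ ?_ ?_).symm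
      · simpa [reassoc_of% hz'1] using h₀
      · refine ((Category.assoc _ _ _).trans ((congrArg (pullback.snd r r ≫ ·) (pullback.lift_fst _ _ _)).trans
          ((Category.assoc _ _ _).symm.trans e₀))).trans ?_
        exact (preOf D).act_congr (by rw [Category.assoc, Category.assoc, hz'1]) rfl _ _
      · simp only [z', Category.assoc, pullback.lift_snd, pullback.condition_assoc]
  obtain ⟨s, ⟨hs1, hs2⟩, huniq⟩ := Groth.L27.TopInv.existsUnique_descend (pullback.fst x t.a) r hr φ
    (pullback.lift_fst _ _ _) hcoc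
  refine ⟨s ≫ pullback.snd x t.a, ⟨?_, fun T' r' z₁ z₁' h1 h2 h3 => ?_⟩, fun w hw => ?_⟩
  · rw [Category.assoc, ← pullback.condition, ← Category.assoc, hs1, Category.id_comp]
  · let l : T' ⟶ T₀ := pullback.lift r' z₁ h1.symm
    have hl : l ≫ z' = z₁' := by
      apply pullback.hom_ext
      · rw [Category.assoc, pullback.lift_fst, h2, ← Category.assoc, pullback.lift_snd]
      · rw [Category.assoc, pullback.lift_snd, h3, ← Category.assoc, pullback.lift_fst]
    rw [← hl, Category.assoc]
    have e : z' ≫ t.q = r ≫ s ≫ pullback.snd x t.a := by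
      rw [← Category.assoc r, hs2, pullback.lift_snd]
    rw [e, ← Category.assoc, pullback.lift_fst]
  · have : pullback.lift (𝟙 T) w (by rw [Category.id_comp, hw.1]) = s :=
      huniq _ ⟨pullback.lift_fst _ _ _, by
        apply pullback.hom_ext
        · rw [Category.assoc, pullback.lift_fst, Category.comp_id, pullback.lift_fst]
        · rw [Category.assoc, pullback.lift_snd, pullback.lift_snd]
          exact (hw.2 r z z' pullback.condition.symm (pullback.lift_fst _ _ _) (pullback.lift_snd _ _ _)).symm⟩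
    rw [← this, pullback.lift_snd]

/-- The action on the descended scheme over `W`. -/
noncomputable def Tup.move (hg : SGA1.UnivSubmersive g) [Etale t.a] [IsIso t.κ] (hc : t.Comm)
    {T : Scheme.{u}} (v : T ⟶ t.U) (x : T ⟶ W) (h : v ≫ t.a ≫ m = x ≫ m) : T ⟶ t.U :=
  (t.existsUnique_moved hg hc v x h).choose

theorem Tup.move_spec (hg : SGA1.UnivSubmersive g) [Etale t.a] [IsIso t.κ] (hc : t.Comm)
    {T : Scheme.{u}} (v : T ⟶ t.U) (x : T ⟶ W) (h : v ≫ t.a ≫ m = x ≫ m) :
    t.Moved v x (t.move hg hc v x h) :=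
  (t.existsUnique_moved hg hc v x h).choose_spec.1

theorem Tup.move_eq (hg : SGA1.UnivSubmersive g) [Etale t.a] [IsIso t.κ] (hc : t.Comm)
    {T : Scheme.{u}} (v : T ⟶ t.U) (x : T ⟶ W) (h : v ≫ t.a ≫ m = x ≫ m) {w : T ⟶ t.U}
    (hw : t.Moved v x w) : t.move hg hc v x h = w :=
  ((t.existsUnique_moved hg hc v x h).choose_spec.2 w hw).symm

/-- The descent datum on the descended scheme over `W`, relative to `m`. -/
noncomputable def Tup.pre (hg : SGA1.UnivSubmersive g) [Etale t.a] [IsIso t.κ] (hc : t.Comm) :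
    Pre m t.a where
  act v x h := t.move hg hc v x h
  hom v x h := (t.move_spec hg hc v x h).1
  natural g' v x h h' := t.move_eq hg hc _ _ h' ⟨by rw [Category.assoc, (t.move_spec hg hc v x h).1],
    fun T' r z z' h1 h2 h3 => by
      rw [(t.move_spec hg hc v x h).2 (r ≫ g') z z' (by rw [h1, Category.assoc]) h2
        (by rw [h3, Category.assoc]), Category.assoc]⟩
  self v h := t.move_eq hg hc _ _ h ⟨rfl, fun T' r z z' h1 h2 h3 => by
    have : z' = z := pullback.hom_ext h2 (by rw [h3, ← t.w, reassoc_of% h1])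
    rw [this, h1]⟩
  comp {T} v x y h h' h'' := (t.move_eq hg hc v y h''
    ⟨(t.move_spec hg hc _ _ h').1, fun T' r z z' h1 h2 h3 => by
      let zx : T' ⟶ pullback (toS D) m :=
        pullback.lift (z ≫ pullback.fst (toS D) m) (r ≫ x) (t.moved_cond v x h r z h1)
      have hx := (t.move_spec hg hc v x h).2 r z zx h1 (pullback.lift_fst _ _ _) (pullback.lift_snd _ _ _)
      exact (t.move_spec hg hc _ _ h').2 r zx z' hx (h2.trans (pullback.lift_fst _ _ _).symm) h3⟩).symm

/-- Etale separated quasi-compact effectivity descends along fpqc base change. -/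
theorem etEffective_of_fpqc (hg : SGA1.UnivSubmersive g) [Flat m] [Surjective m] [QuasiCompact m]
    [Etale t.a] [IsSeparated t.a] [QuasiCompact t.a] [IsIso t.κ] (hc : t.Comm) :
    ∃ d : Descent (preOf D), Etale d.a ∧ IsSeparated d.a ∧ QuasiCompact d.a := by
  have hq : MoreMor.IsIndQuasiAffineHom t.a := Groth.Agent.S1402.result t.a
  obtain ⟨d⟩ := effective_of_isIndQuasiAffineHom (p := m) hq (t.pre hg hc)
  have hm : (@Surjective ⊓ @Flat ⊓ @QuasiCompact : MorphismProperty Scheme.{u}) m :=
    ⟨⟨inferInstance, inferInstance⟩, inferInstance⟩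
  let pr := pullback.fst (toS D) m
  haveI hcov : Cov pr := Cov.of_isPullback (IsPullback.of_hasPullback (toS D) m).flip
  obtain ⟨Q, hQ⟩ := Cov.exists_desc (p := pr) (t.q ≫ d.q) fun {T} g₁ g₂ e => by
    have e' : g₁ ≫ pullback.fst (toS D) m = g₂ ≫ pullback.fst (toS D) m := e
    have h0 : (g₁ ≫ t.q) ≫ t.a ≫ m = (g₂ ≫ pullback.snd (toS D) m) ≫ m := by
      rw [Category.assoc, reassoc_of% t.w, ← pullback.condition, reassoc_of% e', pullback.condition,
        Category.assoc]
    have h1 := (t.move_spec hg hc (g₁ ≫ t.q) (g₂ ≫ pullback.snd (toS D) m) h0).2 (𝟙 T) g₁ g₂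
      (Category.id_comp _).symm e'.symm (Category.id_comp _).symm
    rw [Category.id_comp] at h1
    have h2 := d.comm (g₁ ≫ t.q) (g₂ ≫ pullback.snd (toS D) m) h0
    rw [← Category.assoc g₁, ← Category.assoc g₂]
    exact (h2.symm.trans (congrArg (· ≫ d.q) h1.symm))
  haveI : Epi pr := Cov.epi pr
  have hQa : Q ≫ d.a = toS D := by
    rw [← cancel_epi pr, reassoc_of% hQ, ← d.isPullback.w, reassoc_of% t.w]
    exact pullback.condition.symm
  have hdp : IsPullback t.a d.q m d.a := d.isPullback
  -- the descended square is cartesian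
  let pp : pullback g d.a ⟶ S := pullback.fst g d.a ≫ g
  let κ₀ : tot D ⟶ pullback g d.a := pullback.lift (prj D) Q hQa.symm
  have hκ₀1 : κ₀ ≫ pullback.fst g d.a = prj D := pullback.lift_fst _ _ _
  have hκ₀2 : κ₀ ≫ pullback.snd g d.a = Q := pullback.lift_snd _ _ _
  let κV : pullback (toS D) m ⟶ pullback pp m :=
    pullback.lift (pr ≫ κ₀) (pullback.snd (toS D) m) (by
      show (pr ≫ κ₀) ≫ pullback.fst g d.a ≫ g = _
      rw [Category.assoc, reassoc_of% hκ₀1]
      exact pullback.condition)
  have hcnd : (pullback.snd pp m) ≫ m =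
      (pullback.fst pp m ≫ pullback.snd g d.a) ≫ d.a := by
    rw [← pullback.condition, Category.assoc]
    exact congrArg (pullback.fst pp m ≫ ·) pullback.condition
  let xW : pullback pp m ⟶ pullback g m :=
    pullback.lift (pullback.fst pp m ≫ pullback.fst g d.a) (pullback.snd pp m) (by
      rw [Category.assoc]; exact pullback.condition)
  let u : pullback pp m ⟶ t.U := hdp.lift (pullback.snd pp m) _ hcnd
  have hu1 : u ≫ t.a = pullback.snd pp m := hdp.lift_fst _ _ _
  have hu2 : u ≫ d.q = pullback.fst pp m ≫ pullback.snd g d.a := hdp.lift_snd _ _ _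
  let ψ : pullback pp m ⟶ pullback (pullback.snd g m) t.a :=
    pullback.lift xW u (by rw [pullback.lift_snd, hu1])
  have hxW1 : xW ≫ pullback.fst g m = pullback.fst pp m ≫ pullback.fst g d.a :=
    pullback.lift_fst _ _ _
  have hxW2 : xW ≫ pullback.snd g m = pullback.snd pp m := pullback.lift_snd _ _ _
  haveI : Mono ψ := ⟨fun {T} a b hab => by
    have h1 := congrArg (· ≫ pullback.fst (pullback.snd g m) t.a) hab
    have h2 := congrArg (· ≫ pullback.snd (pullback.snd g m) t.a ≫ d.q) hab
    simp only [ψ, Category.assoc, pullback.lift_fst, pullback.lift_snd_assoc, hu2] at h1 h2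
    apply pullback.hom_ext
    · apply pullback.hom_ext
      · simpa [hxW1] using congrArg (· ≫ pullback.fst g m) h1
      · simpa using h2
    · simpa [hxW2] using congrArg (· ≫ pullback.snd g m) h1⟩
  have hψ : κV ≫ ψ = t.κ := by
    apply pullback.hom_ext
    · rw [Category.assoc, pullback.lift_fst, Tup.κ_fst]
      apply pullback.hom_ext
      · rw [Category.assoc, pullback.lift_fst, fW_fst, ← Category.assoc, pullback.lift_fst,
          Category.assoc, hκ₀1]
      · rw [Category.assoc, pullback.lift_snd, fW_snd, pullback.lift_snd]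
    · rw [Category.assoc, pullback.lift_snd, Tup.κ_snd]
      apply hdp.hom_ext
      · rw [Category.assoc, hu1, pullback.lift_snd, t.w]
      · rw [Category.assoc, hu2, ← Category.assoc, pullback.lift_fst, Category.assoc, hκ₀2]
        exact hQ
  haveI hκV : IsIso κV := by
    refine ⟨ψ ≫ inv t.κ, by rw [← Category.assoc, hψ, IsIso.hom_inv_id], ?_⟩
    rw [← cancel_mono ψ, Category.assoc, Category.assoc, hψ, IsIso.inv_hom_id, Category.comp_id,
      Category.id_comp]
  haveI hκ₀ : IsIso κ₀ := by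
    have h0 : IsPullback pr (κV ≫ pullback.snd pp m) (κ₀ ≫ pp) m := by
      have e1 : κV ≫ pullback.snd pp m = pullback.snd (toS D) m := pullback.lift_snd _ _ _
      have e2 : κ₀ ≫ pp = toS D := (Category.assoc _ _ _).symm.trans (congrArg (· ≫ g) hκ₀1)
      rw [e1, e2]
      exact IsPullback.of_hasPullback _ _
    have sq : IsPullback pr κV κ₀ (pullback.fst pp m) :=
      IsPullback.of_bot h0 (pullback.lift_fst _ _ _).symm (IsPullback.of_hasPullback pp m)
    exact (MorphismProperty.isomorphisms.iff _).1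
      (MorphismProperty.of_isPullback_of_descendsAlong (P := MorphismProperty.isomorphisms Scheme.{u})
        (Q := @Surjective ⊓ @Flat ⊓ @QuasiCompact) sq.flip (MorphismProperty.pullback_fst _ _ hm)
        ((MorphismProperty.isomorphisms.iff _).2 hκV))
  refine ⟨⟨d.U, d.a, Q, ?_, fun {T} v x hv => ?_⟩,
    MorphismProperty.of_isPullback_of_descendsAlong (P := @Etale)
      (Q := @Surjective ⊓ @Flat ⊓ @QuasiCompact) hdp hm inferInstance,
    Groth.L27.SubDesc.isSeparated hdp (Groth.L27.TopInv.univSubmersive_of_fpqc m) inferInstance,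
    MorphismProperty.of_isPullback_of_descendsAlong (P := @QuasiCompact)
      (Q := @Surjective ⊓ @Flat ⊓ @QuasiCompact) hdp hm inferInstance⟩
  · exact IsPullback.of_iso (IsPullback.of_hasPullback g d.a) (asIso κ₀).symm (Iso.refl _) (Iso.refl _)
      (Iso.refl _) ((Category.comp_id _).trans ((IsIso.eq_inv_comp κ₀).2 hκ₀1))
      ((Category.comp_id _).trans ((IsIso.eq_inv_comp κ₀).2 hκ₀2)) (by simp) (by simp)
  · let v₀ : T ⟶ tot D := v
    let r : pullback (v₀ ≫ toS D) m ⟶ T := pullback.fst (v₀ ≫ toS D) m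
    haveI : Cov r := Cov.of_isPullback (IsPullback.of_hasPullback (v₀ ≫ toS D) m).flip
    haveI : Epi r := Cov.epi r
    let w : T ⟶ tot D := (preOf D).act v x hv
    let z : pullback (v₀ ≫ toS D) m ⟶ pullback (toS D) m :=
      pullback.lift (r ≫ v₀) (pullback.snd (v₀ ≫ toS D) m)
        ((Category.assoc _ _ _).trans pullback.condition)
    let z' : pullback (v₀ ≫ toS D) m ⟶ pullback (toS D) m :=
      pullback.lift (r ≫ w) (pullback.snd (v₀ ≫ toS D) m)
        ((Category.assoc _ _ _).trans ((congrArg (r ≫ ·)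
          (((preOf D).hom_p v x hv).trans hv.symm)).trans pullback.condition))
    have hz1 : z ≫ pullback.fst (toS D) m = r ≫ v₀ := pullback.lift_fst _ _ _
    have hz1' : z' ≫ pullback.fst (toS D) m = r ≫ w := pullback.lift_fst _ _ _
    have h0 : (z ≫ pullback.fst (toS D) m) ≫ prj D ≫ g = (r ≫ x) ≫ g := by
      rw [hz1, Category.assoc, Category.assoc]
      exact congrArg (r ≫ ·) hv
    have e : z' ≫ t.q = z ≫ t.q := hc z z' (r ≫ x) h0
      (hz1'.trans ((preOf D).natural' r v x hv h0 hz1.symm rfl))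
      ((pullback.lift_snd _ _ _).trans (pullback.lift_snd _ _ _).symm)
    show w ≫ Q = v₀ ≫ Q
    refine (cancel_epi r).1 ?_
    calc r ≫ w ≫ Q = (r ≫ w) ≫ Q := (Category.assoc _ _ _).symm
      _ = (z' ≫ pr) ≫ Q := congrArg (· ≫ Q) hz1'.symm
      _ = z' ≫ t.q ≫ d.q := (Category.assoc _ _ _).trans (congrArg (z' ≫ ·) hQ)
      _ = z ≫ t.q ≫ d.q := (Category.assoc _ _ _).symm.trans ((congrArg (· ≫ d.q) e).trans (Category.assoc _ _ _))
      _ = (z ≫ pr) ≫ Q := ((Category.assoc _ _ _).trans (congrArg (z ≫ ·) hQ)).symm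
      _ = (r ≫ v₀) ≫ Q := congrArg (· ≫ Q) hz1
      _ = r ≫ v₀ ≫ Q := Category.assoc _ _ _

end Groth.L27.EtGlue
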