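import Groth.Agent.L27.EtGlue.Open

/-!
# Etale effectivity of a descent datum after a base change, on absolute fibre products

For a descent datum `D` relative to `g : S' ⟶ S` and `m : W ⟶ S` all the objects over `W` are
written as fibre products over `S` with `m`, so that base changes along `W' ⟶ W` compose.
-/

set_option autoImplicit false
set_option linter.style.haveILetI false
set_option backward.isDefEq.respectTransparency.types false

universe u

open CategoryTheory Limits AlgebraicGeometry Groth.L20.SchDesc

namespace Groth.L27.EtGlue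

variable {S' S : Scheme.{u}}

section bc

variable {Z W W' : Scheme.{u}}

/-- The base change map of fibre products with `a` along `m'`. -/
noncomputable def bc (a : Z ⟶ S) {m : W ⟶ S} {m'' : W' ⟶ S} (m' : W' ⟶ W) (e : m' ≫ m = m'') :
    pullback a m'' ⟶ pullback a m :=
  pullback.lift (pullback.fst a m'') (pullback.snd a m'' ≫ m') (by
    rw [Category.assoc, e, pullback.condition])

variable (a : Z ⟶ S) {m : W ⟶ S} {m'' : W' ⟶ S} (m' : W' ⟶ W) (e : m' ≫ m = m'')

@[reassoc (attr := simp)]
theorem bc_fst : bc a m' e ≫ pullback.fst a m = pullback.fst a m'' := pullback.lift_fst _ _ _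

@[reassoc (attr := simp)]
theorem bc_snd : bc a m' e ≫ pullback.snd a m = pullback.snd a m'' ≫ m' := pullback.lift_snd _ _ _

theorem isPullback_bc : IsPullback (bc a m' e) (pullback.snd a m'') (pullback.snd a m) m' := by
  refine IsPullback.of_right ?_ (bc_snd a m' e) (IsPullback.of_hasPullback a m)
  rw [bc_fst, e]
  exact IsPullback.of_hasPullback a m''

theorem bc_comp {W'' : Scheme.{u}} {m₃ : W'' ⟶ S} (n : W'' ⟶ W') (e' : n ≫ m'' = m₃) :
    bc a n e' ≫ bc a m' e = bc a (n ≫ m') (by rw [Category.assoc, e, e']) := by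
  apply pullback.hom_ext <;> simp

end bc

variable {g : S' ⟶ S} (D : Desc.SchDDFam (fun _ : PUnit.{1} => g))

/-- The total space of the datum. -/
abbrev tot : Scheme.{u} := (D.obj PUnit.unit).left

/-- The projection of the total space to `S'`. -/
abbrev prj : tot D ⟶ S' := (D.obj PUnit.unit).hom

/-- The structure map of the total space. -/
noncomputable abbrev toS : tot D ⟶ S := prj D ≫ g

variable {W : Scheme.{u}} (m : W ⟶ S)

/-- The projection over `W`. -/
noncomputable def fW : pullback (toS D) m ⟶ pullback g m :=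
  pullback.lift (pullback.fst (toS D) m ≫ prj D) (pullback.snd (toS D) m) (by
    rw [Category.assoc]; exact pullback.condition)

@[reassoc (attr := simp)]
theorem fW_fst : fW D m ≫ pullback.fst g m = pullback.fst (toS D) m ≫ prj D := pullback.lift_fst _ _ _

@[reassoc (attr := simp)]
theorem fW_snd : fW D m ≫ pullback.snd g m = pullback.snd (toS D) m := pullback.lift_snd _ _ _

theorem bc_fW {W' : Scheme.{u}} {m'' : W' ⟶ S} (m' : W' ⟶ W) (e : m' ≫ m = m'') :
    bc (toS D) m' e ≫ fW D m = fW D m'' ≫ bc g m' e := by
  apply pullback.hom_ext <;> simp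

/-- A scheme over `W` with a map from the total space over `W`. -/
structure Tup where
  /-- the scheme over `W` -/
  U : Scheme.{u}
  /-- its structure map -/
  a : U ⟶ W
  /-- the map from the total space -/
  q : pullback (toS D) m ⟶ U
  w : q ≫ a = pullback.snd (toS D) m

variable {D} {m}

/-- The comparison with the fibre product. -/
noncomputable def Tup.κ (t : Tup D m) : pullback (toS D) m ⟶ pullback (pullback.snd g m) t.a :=
  pullback.lift (fW D m) t.q (by rw [fW_snd, t.w])

/-- The map is invariant under the action. -/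
def Tup.Comm (t : Tup D m) : Prop :=
  ∀ ⦃T : Scheme.{u}⦄ (v v' : T ⟶ pullback (toS D) m) (x : T ⟶ S')
    (h : (v ≫ pullback.fst (toS D) m) ≫ prj D ≫ g = x ≫ g),
    v' ≫ pullback.fst (toS D) m = (preOf D).act (v ≫ pullback.fst (toS D) m) x h →
    v' ≫ pullback.snd (toS D) m = v ≫ pullback.snd (toS D) m → v' ≫ t.q = v ≫ t.q

/-- Base change of a tuple. -/
noncomputable def Tup.baseChange (t : Tup D m) {W' : Scheme.{u}} {m'' : W' ⟶ S} (m' : W' ⟶ W)
    (e : m' ≫ m = m'') : Tup D m'' where
  U := pullback t.a m'
  a := pullback.snd t.a m'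
  q := pullback.lift (bc (toS D) m' e ≫ t.q) (pullback.snd (toS D) m'') (by
    rw [Category.assoc, t.w, bc_snd])
  w := pullback.lift_snd _ _ _

variable (D) (m)

/-- The datum is effective over `W` with etale descended scheme. -/
def Good : Prop :=
  ∃ t : Tup D m, Etale t.a ∧ IsIso t.κ ∧ t.Comm

variable {D} {m}

@[reassoc]
theorem Tup.κ_fst (t : Tup D m) : t.κ ≫ pullback.fst (pullback.snd g m) t.a = fW D m :=
  pullback.lift_fst _ _ _

@[reassoc]
theorem Tup.κ_snd (t : Tup D m) : t.κ ≫ pullback.snd (pullback.snd g m) t.a = t.q :=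
  pullback.lift_snd _ _ _

theorem Tup.comm_baseChange (t : Tup D m) (h : t.Comm) {W' : Scheme.{u}} {m'' : W' ⟶ S}
    (m' : W' ⟶ W) (e : m' ≫ m = m'') : (t.baseChange m' e).Comm := by
  intro T v v' x hx h1 h2
  let q' : pullback (toS D) m'' ⟶ pullback t.a m' := (t.baseChange m' e).q
  have hq1 : q' ≫ pullback.fst t.a m' = bc (toS D) m' e ≫ t.q := pullback.lift_fst _ _ _
  have hq2 : q' ≫ pullback.snd t.a m' = pullback.snd (toS D) m'' := pullback.lift_snd _ _ _
  show v' ≫ q' = v ≫ q'
  apply pullback.hom_ext
  · have := h (v ≫ bc (toS D) m' e) (v' ≫ bc (toS D) m' e) x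
      (by rw [Category.assoc v, bc_fst]; exact hx)
      ((Category.assoc _ _ _).trans ((congrArg (v' ≫ ·) (bc_fst (toS D) m' e)).trans
        (h1.trans ((preOf D).act_congr (by rw [Category.assoc, bc_fst]) rfl _ _))))
      (by rw [Category.assoc, Category.assoc, bc_snd, reassoc_of% h2])
    rw [Category.assoc, Category.assoc, hq1, ← Category.assoc, this, Category.assoc]
  · rw [Category.assoc, Category.assoc, hq2, h2]

/-- The comparison map of a base change is a base change of the comparison map. -/
theorem Tup.isPullback_κ (t : Tup D m) {W' : Scheme.{u}} {m'' : W' ⟶ S} (m' : W' ⟶ W)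
    (e : m' ≫ m = m'') :
    ∃ β : pullback (pullback.snd g m'') (t.baseChange m' e).a ⟶ pullback (pullback.snd g m) t.a,
      IsPullback (bc (toS D) m' e) (t.baseChange m' e).κ t.κ β ∧
      IsPullback β (pullback.fst (pullback.snd g m'') (t.baseChange m' e).a ≫ pullback.snd g m'')
        (pullback.fst (pullback.snd g m) t.a ≫ pullback.snd g m) m' := by
  let X := pullback.snd g m
  let X' := pullback.snd g m''
  let a' : pullback t.a m' ⟶ W' := pullback.snd t.a m'
  let β : pullback X' a' ⟶ pullback X t.a :=
    pullback.lift (pullback.fst X' a' ≫ bc g m' e) (pullback.snd X' a' ≫ pullback.fst t.a m') (by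
      simp only [X, Category.assoc, bc_snd]
      rw [pullback.condition, pullback.condition_assoc])
  have hl : IsPullback (pullback.fst X' a') (pullback.snd X' a' ≫ pullback.fst t.a m') (X' ≫ m') t.a :=
    ((IsPullback.of_hasPullback X' a').paste_vert (IsPullback.of_hasPullback t.a m').flip)
  have hl' : IsPullback (pullback.fst X' a') (β ≫ pullback.snd X t.a) (bc g m' e ≫ X) t.a := by
    rw [pullback.lift_snd, bc_snd]; exact hl
  have hβ₁ : IsPullback (pullback.fst X' a') β (bc g m' e) (pullback.fst X t.a) :=
    IsPullback.of_bot hl' (pullback.lift_fst _ _ _).symm (IsPullback.of_hasPullback X t.a)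
  have hβ : IsPullback β (pullback.fst X' a' ≫ X') (pullback.fst X t.a ≫ X) m' :=
    hβ₁.flip.paste_vert (isPullback_bc g m' e)
  refine ⟨β, ?_, hβ⟩
  have hk : ∀ (t : Tup D m), t.κ ≫ pullback.fst (pullback.snd g m) t.a ≫ pullback.snd g m =
      pullback.snd (toS D) m := fun t => by rw [Tup.κ, pullback.lift_fst_assoc, fW_snd]
  let κ' : pullback (toS D) m'' ⟶ pullback X' a' := (t.baseChange m' e).κ
  have hκ1 : κ' ≫ pullback.fst X' a' = fW D m'' := (t.baseChange m' e).κ_fst
  have hκ2 : κ' ≫ pullback.snd X' a' ≫ pullback.fst t.a m' = bc (toS D) m' e ≫ t.q :=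
    ((t.baseChange m' e).κ_snd_assoc _).trans (pullback.lift_fst _ _ _)
  show IsPullback (bc (toS D) m' e) κ' t.κ β
  refine IsPullback.of_bot ?_ ?_ hβ
  · have hk' : κ' ≫ pullback.fst X' a' ≫ X' = pullback.snd (toS D) m'' := by
      rw [reassoc_of% hκ1]; exact fW_snd D m''
    exact cast (congrArg₂ (fun u v => IsPullback (bc (toS D) m' e) u v m') hk'.symm (hk t).symm)
      (isPullback_bc (toS D) m' e)
  · apply pullback.hom_ext
    · rw [Category.assoc, Category.assoc, pullback.lift_fst, reassoc_of% hκ1, Tup.κ_fst, bc_fW]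
    · rw [Category.assoc, Category.assoc, pullback.lift_snd, hκ2, Tup.κ_snd]

theorem Good.baseChange (h : Good D m) {W' : Scheme.{u}} {m'' : W' ⟶ S} (m' : W' ⟶ W)
    (e : m' ≫ m = m'') : Good D m'' := by
  obtain ⟨t, hta, htκ, htc⟩ := h
  obtain ⟨β, h1, -⟩ := t.isPullback_κ m' e
  exact ⟨t.baseChange m' e, MorphismProperty.pullback_snd _ _ hta,
    MorphismProperty.of_isPullback (P := MorphismProperty.isomorphisms Scheme.{u}) h1
      ((MorphismProperty.isomorphisms.iff _).2 htκ), t.comm_baseChange htc m' e⟩

/-- Effectivity over `W` in terms of tuples. -/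
theorem exists_descent_iff (R : MorphismProperty Scheme.{u}) :
    (∃ d : Descent (preOf (pull m D)), R d.a) ↔ ∃ t : Tup D m, R t.a ∧ IsIso t.κ ∧ t.Comm := by
  let f := prj D
  let k := pullback.fst g m
  let e : pullback f k ≅ pullback (toS D) m :=
    { hom := pullback.lift (pullback.fst f k) (pullback.snd f k ≫ pullback.snd g m) (by
        simp only [f, k, toS, Category.assoc]
        rw [pullback.condition_assoc, pullback.condition])
      inv := pullback.lift (pullback.fst (toS D) m) (fW D m) (fW_fst D m).symm
      hom_inv_id := by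
        apply pullback.hom_ext
        · rw [Category.assoc, pullback.lift_fst, pullback.lift_fst, Category.id_comp]
        · rw [Category.assoc, pullback.lift_snd, Category.id_comp]
          apply pullback.hom_ext
          · rw [Category.assoc, fW_fst, pullback.lift_fst_assoc]
            exact pullback.condition
          · rw [Category.assoc, fW_snd, pullback.lift_snd]
      inv_hom_id := by
        apply pullback.hom_ext
        · rw [Category.assoc, pullback.lift_fst, pullback.lift_fst, Category.id_comp]
        · rw [Category.assoc, pullback.lift_snd, pullback.lift_snd_assoc, fW_snd, Category.id_comp] }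
  have he1 : e.hom ≫ pullback.fst (toS D) m = pullback.fst f k := pullback.lift_fst _ _ _
  have he2 : e.hom ≫ pullback.snd (toS D) m = pullback.snd f k ≫ pullback.snd g m := pullback.lift_snd _ _ _
  have he3 : e.inv ≫ pullback.fst f k = pullback.fst (toS D) m := pullback.lift_fst _ _ _
  have he4 : e.inv ≫ pullback.snd f k = fW D m := pullback.lift_snd _ _ _
  constructor
  · rintro ⟨d, hd⟩
    let q₀ : pullback f k ⟶ d.U := d.q
    have hpb : IsPullback (pullback.snd f k) q₀ (pullback.snd g m) d.a := d.isPullback
    have hw : (e.inv ≫ q₀) ≫ d.a = pullback.snd (toS D) m := by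
      rw [Category.assoc, ← hpb.w, reassoc_of% he4, fW_snd]
    let t : Tup D m := ⟨d.U, d.a, e.inv ≫ q₀, hw⟩
    refine ⟨t, hd, ?_, ?_⟩
    · let κ₀ : pullback (toS D) m ⟶ pullback (pullback.snd g m) d.a := t.κ
      have hκ1 : κ₀ ≫ pullback.fst (pullback.snd g m) d.a = fW D m := t.κ_fst
      have hκ2 : κ₀ ≫ pullback.snd (pullback.snd g m) d.a = e.inv ≫ q₀ := t.κ_snd
      have : κ₀ = (e.symm ≪≫ hpb.isoPullback).hom := by
        apply pullback.hom_ext
        · rw [hκ1, Iso.trans_hom, Iso.symm_hom, Category.assoc, hpb.isoPullback_hom_fst, he4]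
        · rw [hκ2, Iso.trans_hom, Iso.symm_hom, Category.assoc, hpb.isoPullback_hom_snd]
      show IsIso κ₀
      rw [this]
      infer_instance
    · intro T v v' x h h1 h2
      let x' : T ⟶ pullback g m := pullback.lift x (v ≫ pullback.snd (toS D) m) (by
        rw [← h, Category.assoc, Category.assoc]
        exact congrArg (v ≫ ·) pullback.condition)
      have hvx : (v ≫ e.inv) ≫ pullback.snd f k ≫ pullback.snd g m = x' ≫ pullback.snd g m := by
        rw [Category.assoc, reassoc_of% he4, fW_snd, pullback.lift_snd]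
      have hact : actW m D (v ≫ e.inv) x' hvx = v' ≫ e.inv := by
        apply pullback.hom_ext
        · refine (actW_fst m D _ _ hvx).trans ?_
          refine Eq.trans ?_ ((Category.assoc v' e.inv (pullback.fst f k)).trans
            ((congrArg (v' ≫ ·) he3).trans h1)).symm
          exact (preOf D).act_congr ((Category.assoc _ _ _).trans (congrArg (v ≫ ·) he3))
            (pullback.lift_fst _ _ _) _ _
        · refine (actW_snd m D _ _ hvx).trans ?_
          refine Eq.trans ?_ ((Category.assoc v' e.inv (pullback.snd f k)).trans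
            (congrArg (v' ≫ ·) he4)).symm
          apply pullback.hom_ext
          · rw [pullback.lift_fst, Category.assoc, fW_fst, reassoc_of% h1]
            exact ((preOf D).hom _ _ _).symm
          · rw [pullback.lift_snd, Category.assoc, fW_snd, h2]
      refine (Category.assoc _ _ _).symm.trans ((congrArg (· ≫ q₀) hact.symm).trans ?_)
      exact (d.comm _ x' hvx).trans (Category.assoc _ _ _)
  · rintro ⟨t, hta, htκ, htc⟩
    have hpb : IsPullback (fW D m) t.q (pullback.snd g m) t.a :=
      IsPullback.of_iso (IsPullback.of_hasPullback (pullback.snd g m) t.a) (asIso t.κ).symm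
        (Iso.refl _) (Iso.refl _) (Iso.refl _)
        ((Category.comp_id _).trans ((IsIso.eq_inv_comp t.κ).2 (pullback.lift_fst _ _ _)))
        ((Category.comp_id _).trans ((IsIso.eq_inv_comp t.κ).2 (pullback.lift_snd _ _ _))) (by simp) (by simp)
    refine ⟨⟨t.U, t.a, e.hom ≫ t.q, ?_, fun {T} v x hv => ?_⟩, hta⟩
    · refine IsPullback.of_iso hpb e.symm (Iso.refl _) (Iso.refl _) (Iso.refl _) ?_ ?_ (by simp) (by simp)
      · rw [Iso.refl_hom, Category.comp_id, Iso.symm_hom]; exact he4.symm
      · exact (Category.comp_id _).trans (e.inv_hom_id_assoc t.q).symm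
    · let v₀ : T ⟶ pullback f k := v
      let w : T ⟶ pullback f k := actW m D v x hv
      have h0 : ((v₀ ≫ e.hom) ≫ pullback.fst (toS D) m) ≫ prj D ≫ g = (x ≫ pullback.fst g m) ≫ g := by
        rw [Category.assoc v₀, he1]; exact cond_pull m f v x hv
      have key := htc (v₀ ≫ e.hom) (w ≫ e.hom) (x ≫ pullback.fst g m) h0
        (by
          rw [Category.assoc, he1]
          exact (actW_fst m D v x hv).trans ((preOf D).act_congr
            (by rw [Category.assoc, he1]) rfl _ _))
        (by
          rw [Category.assoc, he2, Category.assoc, he2, ← Category.assoc]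
          refine (congrArg (· ≫ pullback.snd g m) (actW_snd m D v x hv)).trans ?_
          exact hv.symm)
      exact (Category.assoc _ _ _).symm.trans (key.trans (Category.assoc _ _ _))

/-- `Good` says that the datum over `W` is effective with etale descended scheme. -/
theorem good_iff : EtEffective (preOf (pull m D)) ↔ Good D m :=
  Iff.trans ⟨fun ⟨d⟩ => ⟨d.toDescent, d.etale⟩, fun ⟨d, hd⟩ => ⟨⟨d, hd⟩⟩⟩ (exists_descent_iff @Etale)

end Groth.L27.EtGlue
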