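import Groth.Agent.L27.EtGlue.Main
import Groth.Prelude.Def_DescFam
import Mathlib.AlgebraicGeometry.PullbackCarrier

/-!
# Etale effectivity of descent data is local on the base
-/

set_option autoImplicit false
set_option linter.style.haveILetI false
set_option backward.isDefEq.respectTransparency.types false

universe u

open CategoryTheory Limits AlgebraicGeometry Groth.L20.SchDesc

namespace Groth.L27.EtGlue

variable {S' S W : Scheme.{u}} {g : S' ⟶ S}

/-- The descent datum over `W`. -/
noncomputable abbrev pull (j : W ⟶ S) (D : Desc.SchDDFam (fun _ : PUnit.{1} => g)) :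
    Desc.SchDDFam (fun _ : PUnit.{1} => pullback.snd g j) :=
  (Desc.pullDDFam (f := fun _ : PUnit.{1} => g) (f' := fun _ : PUnit.{1} => pullback.snd g j)
    (α := id) (p := j) (p' := fun _ => pullback.fst g j) (fun _ => pullback.condition)).obj D

/-- The action attached to a one-member descent datum. -/
abbrev preOf {X T : Scheme.{u}} {h : X ⟶ T} (D : Desc.SchDDFam (fun _ : PUnit.{1} => h)) :
    Pre h (D.obj PUnit.unit).hom :=
  ofSchDD ((Desc.SchDDFam.toSchDD h).obj D)

theorem cond_pull (j : W ⟶ S) {E : Scheme.{u}} (f : E ⟶ S') {T : Scheme.{u}}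
    (v : T ⟶ pullback f (pullback.fst g j)) (x : T ⟶ pullback g j)
    (h : v ≫ pullback.snd f (pullback.fst g j) ≫ pullback.snd g j = x ≫ pullback.snd g j) :
    (v ≫ pullback.fst f (pullback.fst g j)) ≫ f ≫ g = (x ≫ pullback.fst g j) ≫ g := by
  rw [Category.assoc, pullback.condition_assoc, pullback.condition, reassoc_of% h, Category.assoc,
    pullback.condition]

/-- The action of the datum over `W`, on the fibre product. -/
noncomputable def actW (j : W ⟶ S) (D : Desc.SchDDFam (fun _ : PUnit.{1} => g)) {T : Scheme.{u}}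
    (v : T ⟶ pullback (D.obj PUnit.unit).hom (pullback.fst g j)) (x : T ⟶ pullback g j)
    (h : v ≫ pullback.snd (D.obj PUnit.unit).hom (pullback.fst g j) ≫ pullback.snd g j =
      x ≫ pullback.snd g j) :
    T ⟶ pullback (D.obj PUnit.unit).hom (pullback.fst g j) :=
  (preOf (pull j D)).act v x h

theorem actW_snd (j : W ⟶ S) (D : Desc.SchDDFam (fun _ : PUnit.{1} => g)) {T : Scheme.{u}}
    (v : T ⟶ pullback (D.obj PUnit.unit).hom (pullback.fst g j)) (x : T ⟶ pullback g j)
    (h : v ≫ pullback.snd (D.obj PUnit.unit).hom (pullback.fst g j) ≫ pullback.snd g j =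
      x ≫ pullback.snd g j) :
    actW j D v x h ≫ pullback.snd (D.obj PUnit.unit).hom (pullback.fst g j) = x :=
  (preOf (pull j D)).hom v x h

/-- The action of the datum over `W` lies over the action of the datum. -/
theorem actW_fst (j : W ⟶ S) (D : Desc.SchDDFam (fun _ : PUnit.{1} => g)) {T : Scheme.{u}}
    (v : T ⟶ pullback (D.obj PUnit.unit).hom (pullback.fst g j)) (x : T ⟶ pullback g j)
    (h : v ≫ pullback.snd (D.obj PUnit.unit).hom (pullback.fst g j) ≫ pullback.snd g j =
      x ≫ pullback.snd g j) :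
    actW j D v x h ≫ pullback.fst (D.obj PUnit.unit).hom (pullback.fst g j) =
      (preOf D).act (v ≫ pullback.fst (D.obj PUnit.unit).hom (pullback.fst g j))
        (x ≫ pullback.fst g j) (cond_pull j (D.obj PUnit.unit).hom v x h) := by
  refine Eq.trans ?_ (ofSchDD_act_eq ((Desc.SchDDFam.toSchDD g).obj D)
    (x₀ := (v ≫ pullback.snd (D.obj PUnit.unit).hom (pullback.fst g j)) ≫ pullback.fst g j)
    ⟨v ≫ pullback.fst (D.obj PUnit.unit).hom (pullback.fst g j),
      (Category.assoc _ _ _).trans ((congrArg (v ≫ ·) pullback.condition).trans (Category.assoc _ _ _).symm)⟩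
    (x ≫ pullback.fst g j) ?_ rfl _)
  · exact pullback.lift_fst _ _ _

/-- Effectivity passes to any base change. -/
theorem exists_descent_pull (R : MorphismProperty Scheme.{u}) [R.IsStableUnderBaseChange]
    (j : W ⟶ S) (D : Desc.SchDDFam (fun _ : PUnit.{1} => g))
    (d : Descent (preOf D)) (hd : R d.a) :
    ∃ d' : Descent (preOf (pull j D)), R d'.a := by
  let f := (D.obj PUnit.unit).hom
  let k := pullback.fst g j
  let q₀ : (D.obj PUnit.unit).left ⟶ d.U := d.q
  have hw : f ≫ g = q₀ ≫ d.a := d.isPullback.w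
  have h0 : IsPullback (pullback.fst f k ≫ q₀) (pullback.snd f k) d.a (k ≫ g) :=
    (IsPullback.of_hasPullback f k).paste_horiz d.isPullback.flip
  have hc : (pullback.fst f k ≫ q₀) ≫ d.a = (pullback.snd f k ≫ pullback.snd g j) ≫ j := by
    rw [Category.assoc, ← hw, pullback.condition_assoc, pullback.condition, Category.assoc]
  let q' : pullback f k ⟶ pullback d.a j := pullback.lift _ _ hc
  have hq1 : q' ≫ pullback.fst d.a j = pullback.fst f k ≫ q₀ := pullback.lift_fst _ _ _
  have hq2 : q' ≫ pullback.snd d.a j = pullback.snd f k ≫ pullback.snd g j := pullback.lift_snd _ _ _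
  have h1 : IsPullback q' (pullback.snd f k) (pullback.snd d.a j) (pullback.snd g j) := by
    refine IsPullback.of_right ?_ hq2 (IsPullback.of_hasPullback d.a j)
    rw [hq1, ← pullback.condition]
    exact h0
  refine ⟨⟨pullback d.a j, pullback.snd d.a j, q', h1.flip, fun {T} v x hv => ?_⟩,
    MorphismProperty.pullback_snd _ _ hd⟩
  apply pullback.hom_ext
  · refine (Category.assoc _ _ _).trans ((congrArg (_ ≫ ·) hq1).trans ((Category.assoc _ _ _).symm.trans ?_))
    refine (congrArg (· ≫ q₀) (actW_fst j D v x hv)).trans ?_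
    refine (d.comm _ _ _).trans ?_
    exact (Category.assoc _ _ _).trans ((congrArg (v ≫ ·) hq1.symm).trans (Category.assoc _ _ _).symm)
  · refine (Category.assoc _ _ _).trans ((congrArg (_ ≫ ·) hq2).trans ((Category.assoc _ _ _).symm.trans ?_))
    refine (congrArg (· ≫ pullback.snd g j) ((preOf (pull j D)).hom v x hv)).trans ?_
    exact hv.symm.trans ((congrArg (v ≫ ·) hq2.symm).trans (Category.assoc _ _ _).symm)

theorem etEffective_pull (j : W ⟶ S) (D : Desc.SchDDFam (fun _ : PUnit.{1} => g))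
    (h : EtEffective (preOf D)) : EtEffective (preOf (pull j D)) := by
  obtain ⟨d, hd⟩ := h
  obtain ⟨d', hd'⟩ := exists_descent_pull @Etale j D d hd
  exact ⟨⟨d', hd'⟩⟩

/-- Effectivity over an open subscheme gives a stable effective open. -/
theorem exists_piece (j : W ⟶ S) [IsOpenImmersion j] (D : Desc.SchDDFam (fun _ : PUnit.{1} => g))
    (h : EtEffective (preOf (pull j D))) (v₀ : (D.obj PUnit.unit).left)
    (hv₀ : g ((D.obj PUnit.unit).hom v₀) ∈ Set.range j) :
    ∃ O : (D.obj PUnit.unit).left.Opens, v₀ ∈ O ∧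
      ∃ hO : Stable (preOf D) O, EtEffective (restrict (preOf D) hO) := by
  let f := (D.obj PUnit.unit).hom
  let k := pullback.fst g j
  let m : pullback f k ⟶ (D.obj PUnit.unit).left := pullback.fst f k
  have hm : m ≫ f = pullback.snd f k ≫ k := pullback.condition
  have hk : k ≫ g = pullback.snd g j ≫ j := pullback.condition
  -- a point of the datum over `W` has its translates over `W`
  have key : ∀ {T : Scheme.{u}} (v' : T ⟶ pullback f k) (x : T ⟶ S')
      (e : (v' ≫ m) ≫ f ≫ g = x ≫ g),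
      ∃ (x' : T ⟶ pullback g j)
        (e' : v' ≫ pullback.snd f k ≫ pullback.snd g j = x' ≫ pullback.snd g j),
        actW j D v' x' e' ≫ m = (preOf D).act (v' ≫ m) x e := by
    intro T v' x e
    have e1 : x ≫ g = ((v' ≫ pullback.snd f k) ≫ pullback.snd g j) ≫ j := by
      rw [← e, Category.assoc, reassoc_of% hm, Category.assoc, Category.assoc, hk]
    refine ⟨pullback.lift x ((v' ≫ pullback.snd f k) ≫ pullback.snd g j) e1,
      (Category.assoc _ _ _).symm.trans (pullback.lift_snd _ _ _).symm, ?_⟩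
    exact (actW_fst j D v' _ _).trans
      ((preOf D).act_congr rfl (pullback.lift_fst _ _ _) _ _)
  have hO : Stable (preOf D) m.opensRange := fun T v x e hv => by
    obtain ⟨v', rfl⟩ : ∃ v', v' ≫ m = v := ⟨_, IsOpenImmersion.lift_fac m v hv⟩
    obtain ⟨x', e', he⟩ := key v' x e
    rw [← he]
    rintro _ ⟨t, rfl⟩
    exact ⟨_, rfl⟩
  have hmem : v₀ ∈ m.opensRange := by
    show v₀ ∈ Set.range (pullback.fst f k)
    rw [Scheme.Pullback.range_fst, Set.mem_preimage, Scheme.Pullback.range_fst]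
    exact hv₀
  obtain ⟨d, hd⟩ := h
  refine ⟨m.opensRange, hmem, hO, ?_⟩
  let e : pullback f k ≅ m.opensRange.toScheme := m.isoOpensRange
  have he : e.hom ≫ m.opensRange.ι = m := Scheme.Hom.isoOpensRange_hom_ι m
  let q₀ : pullback f k ⟶ d.U := d.q
  have hd' : IsPullback (pullback.snd f k) q₀ (pullback.snd g j) d.a := d.isPullback
  have hpb : IsPullback (pullback.snd f k ≫ k) q₀ g (d.a ≫ j) :=
    hd'.paste_horiz (IsPullback.of_hasPullback g j)
  haveI := hd
  refine ⟨⟨⟨d.U, d.a ≫ j, e.inv ≫ q₀, ?_, fun {T} v x hv => ?_⟩, inferInstance⟩⟩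
  · refine hpb.of_iso e (Iso.refl _) (Iso.refl _) (Iso.refl _) ?_ ?_ (by simp) (by simp)
    · rw [Iso.refl_hom, Category.comp_id, reassoc_of% he, hm]
    · rw [Iso.refl_hom, Category.comp_id, Iso.hom_inv_id_assoc]
  · have hv' : (v ≫ e.inv) ≫ m = v ≫ m.opensRange.ι := by
      rw [Category.assoc]
      exact congrArg (v ≫ ·) ((congrArg (e.inv ≫ ·) he.symm).trans (Iso.inv_hom_id_assoc e _))
    have hv0 : ((v ≫ e.inv) ≫ m) ≫ f ≫ g = x ≫ g := by
      rw [hv', Category.assoc]
      exact (congrArg (v ≫ ·) (Category.assoc _ _ _).symm).trans hv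
    obtain ⟨x', e', he'⟩ := key (v ≫ e.inv) x hv0
    have hact : (restrict (preOf D) hO).act v x hv ≫ e.inv = actW j D (v ≫ e.inv) x' e' := by
      apply (cancel_mono m).1
      refine (Category.assoc _ _ _).trans (Eq.trans ?_ he'.symm)
      refine (congrArg (_ ≫ ·) ((congrArg (e.inv ≫ ·) he.symm).trans (Iso.inv_hom_id_assoc e _))).trans ?_
      exact (restrict_act_ι (preOf D) hO v x hv).trans ((preOf D).act_congr hv'.symm rfl _ _)
    exact (Category.assoc _ _ _).symm.trans ((congrArg (· ≫ q₀) hact).trans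
      ((d.comm (v ≫ e.inv) x' e').trans (Category.assoc _ _ _)))

/-- An effective datum is isomorphic to a canonical one. -/
theorem nonempty_iso_toDD {X : Scheme.{u}} {p : X ⟶ S} (D : Desc.SchDD p) (d : Descent (ofSchDD D)) :
    Nonempty ((Desc.toDD p).obj (Over.mk d.a) ≅ D) := by
  let e : D.obj.left ≅ pullback p d.a := d.isPullback.isoPullback
  refine ⟨{
    hom := ⟨Over.homMk e.inv d.isPullback.isoPullback_inv_fst, fun T x₀ x₁ h v w hw => ?_⟩
    inv := ⟨Over.homMk e.hom d.isPullback.isoPullback_hom_fst, fun T x₀ x₁ h v w hw => ?_⟩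
    hom_inv_id := Desc.SchDD.hom_ext (Over.OverMorphism.ext e.inv_hom_id)
    inv_hom_id := Desc.SchDD.hom_ext (Over.OverMorphism.ext e.hom_inv_id) }⟩
  · obtain ⟨w, hw'⟩ := w
    subst hw'
    have hw2 : w = v.1 ≫ e.inv := hw
    apply d.isPullback.hom_ext
    · refine ((ofSchDD D).hom w x₁ ((Category.assoc _ _ _).symm.trans h)).trans ?_
      exact ((Category.assoc _ _ _).trans
        ((congrArg ((Desc.canMap p (Over.mk d.a) _ x₁ h v).1 ≫ ·)
          d.isPullback.isoPullback_inv_fst).trans (canMap_fst _ x₁ h v))).symm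
    · refine (d.comm w x₁ ((Category.assoc _ _ _).symm.trans h)).trans ?_
      refine ((congrArg (· ≫ d.q) hw2).trans ((Category.assoc _ _ _).trans
        (congrArg (v.1 ≫ ·) d.isPullback.isoPullback_inv_snd))).trans ?_
      exact ((Category.assoc _ _ _).trans
        ((congrArg ((Desc.canMap p (Over.mk d.a) _ x₁ h v).1 ≫ ·)
          d.isPullback.isoPullback_inv_snd).trans (canMap_snd _ x₁ h v))).symm
  · obtain ⟨v, hv⟩ := v
    subst hv
    have hw2 : w.1 = v ≫ e.hom := hw
    show (Desc.canMap p (Over.mk d.a) _ x₁ h w).1 = _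
    apply pullback.hom_ext
    · refine (canMap_fst _ x₁ h w).trans ?_
      exact (((Category.assoc _ _ _).trans (congrArg ((D.φ _ x₁ h ⟨v, rfl⟩).1 ≫ ·)
        d.isPullback.isoPullback_hom_fst)).trans (D.φ _ x₁ h ⟨v, rfl⟩).2).symm
    · refine ((canMap_snd _ x₁ h w).trans ((congrArg (· ≫ pullback.snd p d.a) hw2).trans
        ((Category.assoc _ _ _).trans (congrArg (v ≫ ·) d.isPullback.isoPullback_hom_snd)))).trans ?_
      exact (((Category.assoc _ _ _).trans (congrArg ((D.φ _ x₁ h ⟨v, rfl⟩).1 ≫ ·)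
        d.isPullback.isoPullback_hom_snd)).trans
          (d.comm v x₁ ((Category.assoc _ _ _).symm.trans h))).symm

theorem exists_toDD_iff (R : MorphismProperty Scheme.{u})
    (D : Desc.SchDDFam (fun _ : PUnit.{1} => g)) :
    (∃ U : Over S, R U.hom ∧ Nonempty ((Desc.toDDFam (fun _ : PUnit.{1} => g)).obj U ≅ D)) ↔
      ∃ d : Descent (preOf D), R d.a := by
  let E := Desc.SchDDFam.oneEquiv.{0} g
  constructor
  · rintro ⟨U, hU, ⟨i⟩⟩
    have i' : (Desc.toDD g).obj U ≅ (Desc.SchDDFam.toSchDD g).obj D :=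
      (Desc.SchDDFam.toSchDD g).mapIso i
    let η : pullback g U.hom ≅ (D.obj PUnit.unit).left :=
      { hom := i'.hom.hom.left
        inv := i'.inv.hom.left
        hom_inv_id := congrArg (fun m : Desc.SchDD.Hom _ _ => m.hom.left) i'.hom_inv_id
        inv_hom_id := congrArg (fun m : Desc.SchDD.Hom _ _ => m.hom.left) i'.inv_hom_id }
    let f := (D.obj PUnit.unit).hom
    refine ⟨⟨U.left, U.hom, η.inv ≫ pullback.snd g U.hom, ?_, fun {T} v x h => ?_⟩, hU⟩
    · refine IsPullback.of_iso (IsPullback.of_hasPullback g U.hom) η (Iso.refl _) (Iso.refl _)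
        (Iso.refl _) ?_ ?_ (by simp) (by simp)
      · simp only [Iso.refl_hom, Category.comp_id]
        exact (Over.w i'.hom.hom).symm
      · exact (Category.comp_id _).trans (η.hom_inv_id_assoc _).symm
    · have hc := i'.inv.comm (v ≫ f) x ((Category.assoc _ _ _).trans h) ⟨v, rfl⟩
        (i'.inv.push ⟨v, rfl⟩) rfl
      have hc' := congrArg (fun m => m ≫ pullback.snd g U.hom) hc
      refine (Category.assoc _ _ _).symm.trans (hc'.symm.trans ?_)
      exact (canMap_snd (v ≫ f) x ((Category.assoc _ _ _).trans h) _).trans (Category.assoc _ _ _)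
  · rintro ⟨d, hd⟩
    obtain ⟨i⟩ := nonempty_iso_toDD ((Desc.SchDDFam.toSchDD g).obj D) d
    exact ⟨Over.mk d.a, hd, ⟨E.fullyFaithfulFunctor.preimageIso i⟩⟩

theorem etEffective_iff (D : Desc.SchDDFam (fun _ : PUnit.{1} => g)) :
    (∃ U : Over S, Etale U.hom ∧ Nonempty ((Desc.toDDFam (fun _ : PUnit.{1} => g)).obj U ≅ D)) ↔
      EtEffective (preOf D) :=
  (exists_toDD_iff @Etale D).trans
    ⟨fun ⟨d, hd⟩ => ⟨⟨d, hd⟩⟩, fun ⟨d⟩ => ⟨d.toDescent, d.etale⟩⟩

end Groth.L27.EtGlue
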