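import Groth.Agent.L27.EtGlue.Model
import Groth.Agent.L05.DescendFP
import Groth.Agent.L19.Limit.Hom
import Groth.Agent.L19.Limit.Smooth
import Groth.Agent.L19.Limit.Immersion
import Groth.Agent.S4598
import Groth.Agent.L08.NormalQuot.Affine

/-!
# Etale effectivity of a finitely presented descent datum descends from a limit to a stage
-/

set_option autoImplicit false
set_option linter.style.haveILetI false
set_option backward.isDefEq.respectTransparency.types false

universe u

open CategoryTheory Limits AlgebraicGeometry Groth.L20.SchDesc Groth.L19.Limit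

namespace Groth.L27.EtGlue

variable {S' S : Scheme.{u}} {g : S' ⟶ S} (D : Desc.SchDDFam (fun _ : PUnit.{1} => g))

/-- Pairs of a point of the datum and a point of `S'` over the same point of `S`. -/
noncomputable abbrev prs : Scheme.{u} := pullback (toS D) g

/-- Their structure map. -/
noncomputable abbrev prsToS : prs D ⟶ S := pullback.fst (toS D) g ≫ toS D

theorem prs_cond :
    pullback.fst (toS D) g ≫ prj D ≫ g = pullback.snd (toS D) g ≫ g :=
  pullback.condition

/-- The universal translated point. -/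
noncomputable def moved : prs D ⟶ tot D :=
  (preOf D).act (pullback.fst (toS D) g) (pullback.snd (toS D) g) (prs_cond D)

theorem moved_toS : moved D ≫ toS D = prsToS D :=
  ((preOf D).hom_p _ _ (prs_cond D)).trans (prs_cond D).symm

section pair

variable {W : Scheme.{u}} (m : W ⟶ S)

/-- The point over `W`. -/
noncomputable def p₁ : pullback (prsToS D) m ⟶ pullback (toS D) m :=
  pullback.lift (pullback.fst (prsToS D) m ≫ pullback.fst (toS D) g) (pullback.snd (prsToS D) m) (by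
    rw [Category.assoc]; exact pullback.condition)

/-- The translated point over `W`. -/
noncomputable def p₂ : pullback (prsToS D) m ⟶ pullback (toS D) m :=
  pullback.lift (pullback.fst (prsToS D) m ≫ moved D) (pullback.snd (prsToS D) m) (by
    rw [Category.assoc, moved_toS]; exact pullback.condition)

@[reassoc]
theorem p₁_fst : p₁ D m ≫ pullback.fst (toS D) m =
    pullback.fst (prsToS D) m ≫ pullback.fst (toS D) g :=
  pullback.lift_fst _ _ _

@[reassoc]
theorem p₁_snd : p₁ D m ≫ pullback.snd (toS D) m = pullback.snd (prsToS D) m :=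
  pullback.lift_snd _ _ _

@[reassoc]
theorem p₂_fst : p₂ D m ≫ pullback.fst (toS D) m = pullback.fst (prsToS D) m ≫ moved D :=
  pullback.lift_fst _ _ _

@[reassoc]
theorem p₂_snd : p₂ D m ≫ pullback.snd (toS D) m = pullback.snd (prsToS D) m :=
  pullback.lift_snd _ _ _

variable {W' : Scheme.{u}} {m'' : W' ⟶ S} (m' : W' ⟶ W) (e : m' ≫ m = m'')

theorem bc_p₁ : bc (prsToS D) m' e ≫ p₁ D m = p₁ D m'' ≫ bc (toS D) m' e := by
  apply pullback.hom_ext
  · rw [Category.assoc, Category.assoc, p₁_fst, bc_fst, bc_fst_assoc, p₁_fst]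
  · rw [Category.assoc, Category.assoc, p₁_snd, bc_snd, bc_snd, p₁_snd_assoc]

theorem bc_p₂ : bc (prsToS D) m' e ≫ p₂ D m = p₂ D m'' ≫ bc (toS D) m' e := by
  apply pullback.hom_ext
  · rw [Category.assoc, Category.assoc, p₂_fst, bc_fst, bc_fst_assoc, p₂_fst]
  · rw [Category.assoc, Category.assoc, p₂_snd, bc_snd, bc_snd, p₂_snd_assoc]

variable {D} {m}

/-- Invariance is tested on the universal pair. -/
theorem Tup.comm_iff (t : Tup D m) : t.Comm ↔ p₂ D m ≫ t.q = p₁ D m ≫ t.q := by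
  constructor
  · intro h
    have h0 : (p₁ D m ≫ pullback.fst (toS D) m) ≫ prj D ≫ g =
        (pullback.fst (prsToS D) m ≫ pullback.snd (toS D) g) ≫ g := by
      rw [p₁, pullback.lift_fst, Category.assoc, prs_cond, Category.assoc]
    refine h (p₁ D m) (p₂ D m) (pullback.fst (prsToS D) m ≫ pullback.snd (toS D) g) h0 ?_
      (by rw [p₁, p₂, pullback.lift_snd, pullback.lift_snd])
    rw [p₂, pullback.lift_fst]
    exact ((preOf D).natural' (pullback.fst (prsToS D) m) _ _ (prs_cond D) h0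
      (pullback.lift_fst _ _ _).symm rfl)
  · intro h T v v' x hv h1 h2
    let l₀ : T ⟶ prs D := pullback.lift (v ≫ pullback.fst (toS D) m) x hv
    let l : T ⟶ pullback (prsToS D) m := pullback.lift l₀ (v ≫ pullback.snd (toS D) m) (by
      show l₀ ≫ pullback.fst (toS D) g ≫ toS D = _
      rw [pullback.lift_fst_assoc, Category.assoc, Category.assoc]
      exact congrArg (v ≫ ·) pullback.condition)
    have l1 : l ≫ p₁ D m = v := by
      apply pullback.hom_ext
      · rw [Category.assoc, p₁_fst, pullback.lift_fst_assoc]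
        exact pullback.lift_fst _ _ _
      · rw [Category.assoc, p₁_snd]
        exact pullback.lift_snd _ _ _
    have l2 : l ≫ p₂ D m = v' := by
      apply pullback.hom_ext
      · simp only [l, p₂, Category.assoc, pullback.lift_fst, pullback.lift_fst_assoc]
        rw [h1]
        exact (preOf D).natural' l₀ _ _ (prs_cond D) hv (pullback.lift_fst _ _ _)
          (pullback.lift_snd _ _ _)
      · rw [Category.assoc, p₂_snd, h2]
        exact pullback.lift_snd _ _ _
    rw [← l1, ← l2, Category.assoc, Category.assoc, h]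

end pair

variable {I : Type u} [SmallCategory I] [IsCofiltered I] {Dg : I ⥤ Scheme.{u}} {c : Cone Dg}
  [∀ {i j : I} (f : i ⟶ j), IsAffineHom (Dg.map f)] [∀ i, IsAffine (Dg.obj i)]

variable {D}

theorem comp_stage {i₀ i j : I} (t : Dg.obj i₀ ⟶ S) (φ : i ⟶ i₀) (ψ : j ⟶ i) :
    Dg.map ψ ≫ Dg.map φ ≫ t = Dg.map (ψ ≫ φ) ≫ t := by
  rw [Functor.map_comp, Category.assoc]

theorem pi_stage {i₀ i : I} (t : Dg.obj i₀ ⟶ S) (φ : i ⟶ i₀) :
    c.π.app i ≫ Dg.map φ ≫ t = c.π.app i₀ ≫ t := by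
  rw [← Category.assoc, c.w]

/-- Etale effectivity descends from the limit to a stage. -/
theorem Good.exists_stage (hc : IsLimit c) [LocallyOfFinitePresentation g] [QuasiCompact g]
    [QuasiSeparated g] [Surjective g] [Etale (prj D)] [QuasiCompact (prj D)] [QuasiSeparated (prj D)]
    {i₀ : I} (t : Dg.obj i₀ ⟶ S) (h : Good D (c.π.app i₀ ≫ t)) :
    ∃ (i : I) (φ : i ⟶ i₀), Good D (Dg.map φ ≫ t) := by
  obtain ⟨⟨U, a, q, hw⟩, hae, hκ, hcomm⟩ := h
  let m := c.π.app i₀ ≫ t
  change Tup.Comm (⟨U, a, q, hw⟩ : Tup D m) at hcomm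
  haveI : Etale a := hae
  -- the descended scheme is quasi-compact and quasi-separated
  let X := pullback.snd g m
  let κ : pullback (toS D) m ⟶ pullback X a := (⟨U, a, q, hw⟩ : Tup D m).κ
  haveI : IsIso κ := hκ
  have hκ1 : κ ≫ pullback.fst X a = fW D m := Tup.κ_fst _
  have hκ2 : κ ≫ pullback.snd X a = q := Tup.κ_snd _
  haveI : Surjective X := MorphismProperty.pullback_snd _ _ inferInstance
  haveI : QuasiCompact X := MorphismProperty.pullback_snd _ _ inferInstance
  haveI : Surjective q := by rw [← hκ2]; infer_instance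
  haveI : QuasiCompact (pullback.snd (toS D) m) := MorphismProperty.pullback_snd _ _ inferInstance
  haveI : QuasiSeparated (pullback.snd (toS D) m) := MorphismProperty.pullback_snd _ _ inferInstance
  haveI : QuasiCompact (q ≫ a) := by rw [hw]; infer_instance
  haveI : QuasiCompact a := Groth.L08.NormalQuot.quasiCompact_of_surjective q a
  haveI : QuasiSeparated a := by
    haveI : QuasiSeparated (fW D m ≫ X) := by rw [fW_snd]; infer_instance
    haveI : QuasiSeparated (fW D m) := QuasiSeparated.of_comp (fW D m) X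
    haveI : QuasiSeparated (pullback.fst X a) := by
      rw [← (IsIso.inv_comp_eq κ).2 hκ1.symm]; infer_instance
    haveI : QuasiSeparated (pullback.snd a X) := by
      rw [← pullbackSymmetry_hom_comp_fst a X]; infer_instance
    exact Groth.Agent.S4598.result a X
  -- a finitely presented model
  obtain ⟨i₁, U₁, a₁, qU, h1, h2, h3, sq⟩ := Groth.L05.DescendFP.exists_stage hc a
  obtain ⟨j, φ₁, hj⟩ := descends_etale hc a₁ ⟨⟨h2, h3⟩, h1⟩
    ((pb_iff_of_isPullback sq).mp (inferInstance : Etale a))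
  obtain ⟨i₂, u, v, -⟩ := IsCofilteredOrEmpty.cone_objs j i₀
  let ψ₁ : i₂ ⟶ i₁ := u ≫ φ₁
  let U₂ := pullback a₁ (Dg.map ψ₁)
  let a₂ : U₂ ⟶ Dg.obj i₂ := pullback.snd a₁ (Dg.map ψ₁)
  haveI : Etale a₂ := by
    have : Pb @Etale a₁ (Dg.map ψ₁) := by
      rw [Functor.map_comp]; exact pb_comp _ hj
    exact (pb_iff_of_isPullback (IsPullback.of_hasPullback a₁ (Dg.map ψ₁))).mpr this
  haveI : QuasiCompact a₂ := MorphismProperty.pullback_snd _ _ h2
  haveI : QuasiSeparated a₂ := MorphismProperty.pullback_snd _ _ h3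
  let qU₂ : U ⟶ U₂ := pullback.lift qU (a ≫ c.π.app i₂) (by rw [Category.assoc, c.w]; exact sq.w)
  have sq₂ : IsPullback qU₂ a a₂ (c.π.app i₂) :=
    IsPullback.of_right (by rw [pullback.lift_fst, c.w]; exact sq) (pullback.lift_snd _ _ _)
      (IsPullback.of_hasPullback a₁ (Dg.map ψ₁))
  -- the map from the total space
  let m₂ := Dg.map v ≫ t
  have e₂ : c.π.app i₂ ≫ m₂ = m := pi_stage t v
  haveI : QuasiCompact (pullback.snd (toS D) m₂) := MorphismProperty.pullback_snd _ _ inferInstance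
  haveI : QuasiSeparated (pullback.snd (toS D) m₂) := MorphismProperty.pullback_snd _ _ inferInstance
  haveI : CompactSpace ↥(pullback (toS D) m₂) :=
    QuasiCompact.compactSpace_of_compactSpace (pullback.snd (toS D) m₂)
  haveI : QuasiSeparatedSpace ↥(pullback (toS D) m₂) :=
    quasiSeparatedSpace_of_quasiSeparated (pullback.snd (toS D) m₂)
  obtain ⟨i₃, φ₃, fj, sX, sY, k1, k2, k3, k4, k5, k6⟩ :=
    exists_hom_stage hc (isPullback_bc (toS D) (c.π.app i₂) e₂) sq₂ q hw
  let m₃ := Dg.map (φ₃ ≫ v) ≫ t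
  have e₃ : c.π.app i₃ ≫ m₃ = m := pi_stage t (φ₃ ≫ v)
  have e₃₂ : Dg.map φ₃ ≫ m₂ = m₃ := comp_stage t v φ₃
  let l : pullback (toS D) m₃ ⟶ pullback (pullback.snd (toS D) m₂) (Dg.map φ₃) :=
    pullback.lift (bc (toS D) (Dg.map φ₃) e₃₂) (pullback.snd (toS D) m₃) (bc_snd _ _ _)
  let t₃ : Tup D m₃ := ⟨pullback a₂ (Dg.map φ₃), pullback.snd a₂ (Dg.map φ₃), l ≫ fj,
    by rw [Category.assoc, k1, pullback.lift_snd]⟩
  have sq₃ : IsPullback sY a t₃.a (c.π.app i₃) :=
    IsPullback.of_right (by rw [k4, c.w]; exact sq₂) k5 (IsPullback.of_hasPullback a₂ (Dg.map φ₃))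
  haveI : Etale t₃.a := MorphismProperty.pullback_snd _ _ (inferInstance : Etale a₂)
  haveI : QuasiCompact t₃.a := MorphismProperty.pullback_snd _ _ (inferInstance : QuasiCompact a₂)
  haveI : QuasiSeparated t₃.a :=
    MorphismProperty.pullback_snd _ _ (inferInstance : QuasiSeparated a₂)
  have hq₃ : bc (toS D) (c.π.app i₃) e₃ ≫ t₃.q = q ≫ sY := by
    have hl : bc (toS D) (c.π.app i₃) e₃ ≫ l = sX := by
      apply pullback.hom_ext
      · rw [Category.assoc, pullback.lift_fst, k2]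
        apply pullback.hom_ext <;> simp
      · rw [Category.assoc, pullback.lift_snd, k3, bc_snd]
    show bc (toS D) (c.π.app i₃) e₃ ≫ l ≫ fj = q ≫ sY
    rw [reassoc_of% hl, k6]
  -- invariance
  haveI : QuasiCompact (prsToS D) := inferInstance
  haveI : QuasiSeparated (prsToS D) := inferInstance
  haveI : QuasiCompact (pullback.snd (prsToS D) m₃) := MorphismProperty.pullback_snd _ _ inferInstance
  haveI : CompactSpace ↥(pullback (prsToS D) m₃) :=
    QuasiCompact.compactSpace_of_compactSpace (pullback.snd (prsToS D) m₃)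
  have hp1 : (p₁ D m₃ ≫ t₃.q) ≫ t₃.a = pullback.snd (prsToS D) m₃ := by
    rw [Category.assoc, t₃.w, p₁, pullback.lift_snd]
  have hp2 : (p₂ D m₃ ≫ t₃.q) ≫ t₃.a = pullback.snd (prsToS D) m₃ := by
    rw [Category.assoc, t₃.w, p₂, pullback.lift_snd]
  obtain ⟨i₄, φ₄, hk⟩ := exists_fst_comp_eq hc (isPullback_bc (prsToS D) (c.π.app i₃) e₃)
    (p₂ D m₃ ≫ t₃.q) (p₁ D m₃ ≫ t₃.q) hp2 hp1 (by
      have hA : ∀ (x : pullback (prsToS D) m ⟶ pullback (toS D) m)
          (y : pullback (prsToS D) m₃ ⟶ pullback (toS D) m₃),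
          bc (prsToS D) (c.π.app i₃) e₃ ≫ y = x ≫ bc (toS D) (c.π.app i₃) e₃ →
          bc (prsToS D) (c.π.app i₃) e₃ ≫ y ≫ t₃.q = (x ≫ q) ≫ sY := fun x y hxy => by
        rw [reassoc_of% hxy, Category.assoc x, ← hq₃]
      refine (hA _ _ (bc_p₂ D m₃ (c.π.app i₃) e₃)).trans (Eq.trans ?_
        (hA _ _ (bc_p₁ D m₃ (c.π.app i₃) e₃)).symm)
      exact congrArg (· ≫ sY) ((Tup.comm_iff _).1 hcomm))
  let m₄ := Dg.map (φ₄ ≫ φ₃ ≫ v) ≫ t
  have e₄ : c.π.app i₄ ≫ m₄ = m := pi_stage t (φ₄ ≫ φ₃ ≫ v)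
  have e₄₃ : Dg.map φ₄ ≫ m₃ = m₄ := comp_stage t (φ₃ ≫ v) φ₄
  let t₄ := t₃.baseChange (Dg.map φ₄) e₄₃
  have hcomm₄ : t₄.Comm := by
    rw [Tup.comm_iff]
    let q' : pullback (toS D) m₄ ⟶ pullback t₃.a (Dg.map φ₄) := t₄.q
    have hq1 : q' ≫ pullback.fst t₃.a (Dg.map φ₄) = bc (toS D) (Dg.map φ₄) e₄₃ ≫ t₃.q :=
      pullback.lift_fst _ _ _
    have hq2 : q' ≫ pullback.snd t₃.a (Dg.map φ₄) = pullback.snd (toS D) m₄ := pullback.lift_snd _ _ _
    show p₂ D m₄ ≫ q' = p₁ D m₄ ≫ q'
    apply pullback.hom_ext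
    · rw [Category.assoc, Category.assoc, hq1]
      refine ((Category.assoc _ _ _).symm.trans ((congrArg (· ≫ t₃.q)
        (bc_p₂ D m₃ (Dg.map φ₄) e₄₃).symm).trans (Category.assoc _ _ _))).trans (Eq.trans ?_
        ((Category.assoc _ _ _).symm.trans ((congrArg (· ≫ t₃.q)
        (bc_p₁ D m₃ (Dg.map φ₄) e₄₃).symm).trans (Category.assoc _ _ _))).symm)
      let r : pullback (prsToS D) m₄ ⟶ pullback (pullback.snd (prsToS D) m₃) (Dg.map φ₄) :=
        pullback.lift (bc (prsToS D) (Dg.map φ₄) e₄₃) (pullback.snd (prsToS D) m₄) (bc_snd _ _ _)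
      have hr : r ≫ pullback.fst (pullback.snd (prsToS D) m₃) (Dg.map φ₄) =
          bc (prsToS D) (Dg.map φ₄) e₄₃ := pullback.lift_fst _ _ _
      have := congrArg (r ≫ ·) hk
      rw [← Category.assoc r, ← Category.assoc r, hr] at this
      exact this
    · rw [Category.assoc, Category.assoc, hq2, p₁, p₂, pullback.lift_snd, pullback.lift_snd]
  let sY₄ : U ⟶ pullback t₃.a (Dg.map φ₄) := pullback.lift sY (a ≫ c.π.app i₄) (by
    rw [Category.assoc, c.w]; exact sq₃.w)
  have sq₄ : IsPullback sY₄ a t₄.a (c.π.app i₄) :=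
    IsPullback.of_right (by rw [pullback.lift_fst, c.w]; exact sq₃) (pullback.lift_snd _ _ _)
      (IsPullback.of_hasPullback t₃.a (Dg.map φ₄))
  have hq₄ : bc (toS D) (c.π.app i₄) e₄ ≫ t₄.q = q ≫ sY₄ := by
    let q' : pullback (toS D) m₄ ⟶ pullback t₃.a (Dg.map φ₄) := t₄.q
    show bc (toS D) (c.π.app i₄) e₄ ≫ q' = q ≫ sY₄
    have hq1 : q' ≫ pullback.fst t₃.a (Dg.map φ₄) = bc (toS D) (Dg.map φ₄) e₄₃ ≫ t₃.q :=
      pullback.lift_fst _ _ _
    have hq2 : q' ≫ pullback.snd t₃.a (Dg.map φ₄) = pullback.snd (toS D) m₄ := pullback.lift_snd _ _ _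
    apply pullback.hom_ext
    · rw [Category.assoc, Category.assoc, hq1, pullback.lift_fst, ← Category.assoc, bc_comp, ← hq₃]
      congr 1
      apply pullback.hom_ext <;> simp
    · rw [Category.assoc, Category.assoc, hq2, pullback.lift_snd, bc_snd, reassoc_of% hw]
  -- the square is cartesian in the limit, hence at a stage
  let tl := t₄.baseChange (c.π.app i₄) e₄
  have hiso : IsIso tl.κ := by
    let a' : pullback t₄.a (c.π.app i₄) ⟶ c.pt := pullback.snd t₄.a (c.π.app i₄)
    let ε : U ≅ pullback t₄.a (c.π.app i₄) := sq₄.isoPullback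
    have hεa : ε.hom ≫ a' = a := sq₄.isoPullback_hom_snd
    let q' : pullback (toS D) m ⟶ pullback t₄.a (c.π.app i₄) := tl.q
    have hq' : q ≫ ε.hom = q' := by
      apply pullback.hom_ext
      · exact (Category.assoc _ _ _).trans ((congrArg (q ≫ ·) sq₄.isoPullback_hom_fst).trans
          (hq₄.symm.trans (pullback.lift_fst _ _ _).symm))
      · exact (Category.assoc _ _ _).trans ((congrArg (q ≫ ·) sq₄.isoPullback_hom_snd).trans
          (hw.trans (pullback.lift_snd _ _ _).symm))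
    let κ' : pullback (toS D) m ⟶ pullback X a' := tl.κ
    let γ : pullback X a ⟶ pullback X a' := pullback.map X a X a' (𝟙 _) ε.hom (𝟙 _) (by simp) (by simp [hεa])
    haveI : IsIso γ := inferInstance
    have : κ' = κ ≫ γ := by
      apply pullback.hom_ext
      · rw [Category.assoc, pullback.lift_fst, Category.comp_id, hκ1]
        exact tl.κ_fst
      · rw [Category.assoc, pullback.lift_snd, reassoc_of% hκ2, hq']
        exact tl.κ_snd
    show IsIso κ'
    rw [this]; infer_instance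
  obtain ⟨β, hβ1, hβ2⟩ := t₄.isPullback_κ (c.π.app i₄) e₄
  haveI : QuasiCompact t₄.a := MorphismProperty.pullback_snd _ _ (inferInstance : QuasiCompact t₃.a)
  haveI : QuasiSeparated t₄.a :=
    MorphismProperty.pullback_snd _ _ (inferInstance : QuasiSeparated t₃.a)
  haveI : Etale t₄.a := MorphismProperty.pullback_snd _ _ (inferInstance : Etale t₃.a)
  let X₄ := pullback.snd g m₄
  haveI : QuasiCompact X₄ := MorphismProperty.pullback_snd _ _ inferInstance
  haveI : QuasiSeparated X₄ := MorphismProperty.pullback_snd _ _ inferInstance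
  haveI : LocallyOfFinitePresentation X₄ := MorphismProperty.pullback_snd _ _ inferInstance
  let g₄ : pullback X₄ t₄.a ⟶ Dg.obj i₄ := pullback.fst X₄ t₄.a ≫ X₄
  haveI : QuasiCompact (pullback.fst X₄ t₄.a) := MorphismProperty.pullback_fst _ _ ‹QuasiCompact t₄.a›
  haveI : QuasiSeparated (pullback.fst X₄ t₄.a) :=
    MorphismProperty.pullback_fst _ _ ‹QuasiSeparated t₄.a›
  haveI : LocallyOfFinitePresentation (pullback.fst X₄ t₄.a) :=
    MorphismProperty.pullback_fst (P := @LocallyOfFinitePresentation) _ _ inferInstance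
  haveI : CompactSpace ↥(pullback X₄ t₄.a) := QuasiCompact.compactSpace_of_compactSpace g₄
  let κ₄ : pullback (toS D) m₄ ⟶ pullback X₄ t₄.a := t₄.κ
  have hκ₄ : κ₄ ≫ g₄ = pullback.snd (toS D) m₄ := (t₄.κ_fst_assoc _).trans (fW_snd D m₄)
  haveI : QuasiCompact (κ₄ ≫ g₄) := by
    rw [hκ₄]; exact MorphismProperty.pullback_snd _ _ inferInstance
  haveI : QuasiSeparated (κ₄ ≫ g₄) := by
    rw [hκ₄]; exact MorphismProperty.pullback_snd _ _ inferInstance
  haveI : LocallyOfFinitePresentation (κ₄ ≫ g₄) := by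
    rw [hκ₄]; exact MorphismProperty.pullback_snd (P := @LocallyOfFinitePresentation) _ _ inferInstance
  haveI : QuasiCompact κ₄ := QuasiCompact.of_comp κ₄ g₄
  haveI : QuasiSeparated κ₄ := QuasiSeparated.of_comp κ₄ g₄
  haveI : LocallyOfFinitePresentation κ₄ := Groth.Agent.S12442.result κ₄ g₄
  obtain ⟨i₅, φ₅, hk₅⟩ := descends_isIso.exists_pb hc κ₄ g₄
    ⟨⟨inferInstance, inferInstance⟩, inferInstance⟩ hβ2
    ((pb_iff_of_isPullback (P := MorphismProperty.isomorphisms Scheme.{u}) hβ1).mp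
      ((MorphismProperty.isomorphisms.iff _).2 hiso))
  let m₅ := Dg.map (φ₅ ≫ φ₄ ≫ φ₃ ≫ v) ≫ t
  have e₅₄ : Dg.map φ₅ ≫ m₄ = m₅ := comp_stage t (φ₄ ≫ φ₃ ≫ v) φ₅
  obtain ⟨β', hb1, hb2⟩ := t₄.isPullback_κ (Dg.map φ₅) e₅₄
  refine ⟨i₅, φ₅ ≫ φ₄ ≫ φ₃ ≫ v, t₄.baseChange (Dg.map φ₅) e₅₄,
    MorphismProperty.pullback_snd _ _ (inferInstance : Etale t₄.a), ?_,
    t₄.comm_baseChange hcomm₄ _ _⟩
  have : Pb (MorphismProperty.isomorphisms Scheme.{u}) κ₄ β' := by
    let δ := pullback.lift (f := Dg.map φ₅) (g := g₄)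
      (pullback.fst (pullback.snd g m₅) (t₄.baseChange (Dg.map φ₅) e₅₄).a ≫ pullback.snd g m₅)
      β' hb2.w.symm
    have hδ : δ ≫ pullback.snd (Dg.map φ₅) g₄ = β' := pullback.lift_snd _ _ _
    rw [← hδ]
    exact pb_comp δ hk₅
  exact (MorphismProperty.isomorphisms.iff _).1
    ((pb_iff_of_isPullback (P := MorphismProperty.isomorphisms Scheme.{u}) hb1).mpr this)

end Groth.L27.EtGlue
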